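import Cfsg.Agent.Palfy.KL
import Cfsg.Agent.Char.PPrimeDeg
import Cfsg.Agent.Char.TripleAmb
import Cfsg.Agent.Solv.Coprime2
import Cfsg.Agent.Grp.PFrattini
import Cfsg.Agent.Grp.MinNormal

/-! Small tools for the three primes theorem. -/

set_option autoImplicit false

namespace Cfsg.Agent.Palfy

open Subgroup Cfsg.Agent.Char
open scoped commutatorElement

variable {G : Type*} [Group G] {p q s : ℕ}

/-- the action of `G ⧸ M` on the linear characters of `N` -/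
def qdual (N M : Subgroup G) [N.Normal] [M.Normal] (h : ∀ μ : N →* ℂˣ, M ≤ St (dual N) μ) :
    G ⧸ M →* MulAut (N →* ℂˣ) :=
  QuotientGroup.lift M (dual N) fun _ hg => MulEquiv.ext fun μ => h μ hg

theorem St_qdual {N M : Subgroup G} [N.Normal] [M.Normal] (h : ∀ μ : N →* ℂˣ, M ≤ St (dual N) μ)
    (μ : N →* ℂˣ) :
    St (qdual N M h) μ = (St (dual N) μ).map (QuotientGroup.mk' M) :=
  le_antisymm (fun x hx => by
    obtain ⟨g, rfl⟩ := QuotientGroup.mk_surjective x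
    exact ⟨g, hx, rfl⟩) (by rintro _ ⟨g, hg, rfl⟩; exact hg)

theorem self_le_St (N : Subgroup G) [N.Normal] (μ : N →* ℂˣ) : N ≤ St (dual N) μ := fun g hg =>
  mem_St_dual.2 fun n => by
    rw [show (⟨g * n * g⁻¹, _⟩ : N) = ⟨g, hg⟩ * n * (⟨g, hg⟩ : N)⁻¹ from rfl, map_mul, map_mul, map_inv,
      mul_inv_cancel_comm]

theorem cent_le_St (N : Subgroup G) [N.Normal] (μ : N →* ℂˣ) : centralizer N ≤ St (dual N) μ :=
  fun _ hg => mem_St_dual.2 fun n => congrArg μ (Subtype.ext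
    (mul_inv_eq_iff_eq_mul.2 (hg n n.2).symm))

theorem St_comm {N : Subgroup G} [hN : N.Normal] {μ : N →* ℂˣ} {g n : G} (hg : g ∈ St (dual N) μ)
    (hn : n ∈ N) (h : ⁅g, n⁆ ∈ N) : μ ⟨⁅g, n⁆, h⟩ = 1 := by
  rw [show (⟨⁅g, n⁆, h⟩ : N) = ⟨g * n * g⁻¹, hN.conj_mem n hn g⟩ * (⟨n, hn⟩ : N)⁻¹ from rfl, map_mul,
    map_inv, mem_St_dual.1 hg ⟨n, hn⟩, mul_inv_cancel]

theorem eq_one_of_St {N S C : Subgroup G} [hN : N.Normal] {μ : N →* ℂˣ} (hS : S ≤ St (dual N) μ)
    (hC : ∀ n : N, n.1 ∈ C → μ n = 1) (h : N ≤ ⁅N, S⁆ ⊔ (N ⊓ C)) : μ = 1 := by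
  have : N ≤ μ.ker.map N.subtype := h.trans (sup_le (by
    rw [commutator_comm]
    exact commutator_le.2 fun g hg n hn => ⟨⟨_, mul_mem (hN.conj_mem n hn g) (inv_mem hn)⟩,
      St_comm (hS hg) hn _, rfl⟩) fun n hn => ⟨⟨n, hn.1⟩, hC _ hn.2, rfl⟩)
  refine MonoidHom.ext fun n => ?_
  obtain ⟨m, hm, e⟩ := this n.2
  exact (Subtype.ext e : m = n) ▸ hm

variable [Finite G]

theorem comm_mem_of_St {N : Subgroup G} [hN : N.Normal] {g n : G} (h : ∀ μ : N →* ℂˣ, g ∈ St (dual N) μ)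
    (hn : n ∈ N) : ⁅g, n⁆ ∈ ⁅N, N⁆ := by
  rw [← map_subtype_commutator]
  exact ⟨⟨_, mul_mem (hN.conj_mem n hn g) (inv_mem hn)⟩,
    mem_commutator_of_forall_hom fun μ => St_comm (h μ) hn _, rfl⟩

theorem cent_of_St {N : Subgroup G} [N.Normal] (c : N ≤ centralizer N) {S : Subgroup G}
    (h : ∀ μ : N →* ℂˣ, S ≤ St (dual N) μ) : N ≤ centralizer S := fun n hn g hg => by
  have := comm_mem_of_St (fun μ => h μ hg) hn
  rwa [commutator_eq_bot_iff_le_centralizer.2 c, mem_bot, commutatorElement_eq_one_iff_mul_comm] at this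

theorem normal_sup_iff [Fact s.Prime] (S : Sylow s G) (M : Subgroup G) [M.Normal] :
    (S.mapSurjective (QuotientGroup.mk'_surjective M) : Subgroup (G ⧸ M)).Normal ↔
      ((S : Subgroup G) ⊔ M).Normal := by
  have e := comap_map_eq (QuotientGroup.mk' M) (S : Subgroup G)
  rw [QuotientGroup.ker_mk'] at e
  refine ⟨fun h => e ▸ h.comap _, fun h => ?_⟩
  have := h.map _ (QuotientGroup.mk'_surjective M)
  rwa [← e, map_comap_eq_self_of_surjective (QuotientGroup.mk'_surjective M)] at this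

theorem syl_of_not_dv [Group.IsSolvable G] (hs : s.Prime) {M : Subgroup G} [M.Normal]
    (h : ¬ Dv s (G ⧸ M)) (S : Sylow s G) : ((S : Subgroup G) ⊔ M).Normal ∧
      ∀ a ∈ (S : Subgroup G), ∀ b ∈ (S : Subgroup G), ⁅a, b⁆ ∈ M := by
  have := Fact.mk hs
  obtain ⟨P, p1, p2, p3, p4⟩ := (S4493.result inferInstance s hs).2 fun χ c => h ⟨χ, c⟩
  have := Sylow.unique_of_normal (p3.toSylow p4) p1
  have e : S.mapSurjective (QuotientGroup.mk'_surjective M) = p3.toSylow p4 := Subsingleton.elim _ _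
  refine ⟨(normal_sup_iff S M).1 (e ▸ p1), fun a ha b hb => ?_⟩
  have k : ∀ a ∈ (S : Subgroup G), (a : G ⧸ M) ∈ P := fun a ha =>
    (congrArg Sylow.toSubgroup e).le ⟨a, ha, rfl⟩
  rw [← QuotientGroup.eq_one_iff, ← QuotientGroup.mk'_apply, map_commutatorElement,
    commutatorElement_eq_one_iff_mul_comm]
  exact p2 _ (k a ha) _ (k b hb)

theorem Dv.not_cent [Group.IsSolvable G] (hs : s.Prime) (h : Dv s G) (S : Sylow s G)
    (hS : (S : Subgroup G).Normal) : ¬ (S : Subgroup G) ≤ centralizer (S : Subgroup G) := fun c =>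
  have := Fact.mk hs
  h.elim ((S4493.result inferInstance s hs).1 ⟨S, hS, fun x hx _ hy => (c hy x hx), S.2, S.not_dvd_index⟩)

theorem Ext.nq [Group.IsSolvable G] {M N : Subgroup G} [M.Normal] [N.Normal] {θ : IrrCharacter M}
    (h : Ext M θ) (hM : ∀ μ : N →* ℂˣ, M ≤ St (dual N) μ) {μ : N →* ℂˣ}
    (e : inertia M (θ : M → ℂ) = St (dual N) μ) (hp : p.Prime) (hq : q.Prime)
    (ne : p ≠ q) (hd : p ∣ (inertia M (θ : M → ℂ)).index * charDegree (θ : M → ℂ))
    (no : ¬ Dv (p * q) G) : Nq (qdual N M hM) q μ := by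
  obtain ⟨Q, h1, -, h2⟩ := h.sylow _ (QuotientGroup.mk'_surjective M) (QuotientGroup.ker_mk' M) hp hq
    ne hd no
  unfold Nq
  rw [St_qdual, ← e]
  exact ⟨Q, h1, h2⟩

theorem le_St_of_normal [Fact q.Prime] {M N : Subgroup G} [M.Normal] [N.Normal]
    {hM : ∀ μ : N →* ℂˣ, M ≤ St (dual N) μ} (h : ∀ μ : N →* ℂˣ, μ ≠ 1 → Nq (qdual N M hM) q μ)
    (Q : Sylow q G)
    (hQ : ((Q : Subgroup G) ⊔ M).Normal) (μ : N →* ℂˣ) : (Q : Subgroup G) ≤ St (dual N) μ := by
  by_cases c : μ = 1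
  · exact fun g _ => mem_St.2 (c ▸ map_one _)
  obtain ⟨R, hR, -⟩ := h μ c
  have := Sylow.unique_of_normal _ ((normal_sup_iff Q M).2 hQ)
  rw [Subsingleton.elim R (Q.mapSurjective (QuotientGroup.mk'_surjective M))] at hR
  exact fun g hg => hR ⟨g, hg, rfl⟩

theorem normal_of_cent [Fact s.Prime] (S : Sylow s G) {M : Subgroup G}
    (h : ((S : Subgroup G) ⊔ M).Normal) (c : M ≤ centralizer (S : Subgroup G)) :
    (S : Subgroup G).Normal :=
  sylow_normal S h le_sup_left (sup_le le_normalizer (c.trans (centralizer_le_normalizer _)))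

theorem card_dual {A : Type*} [Group A] [Finite A] (h : ∀ a b : A, a * b = b * a) :
    Nat.card (A →* ℂˣ) = Nat.card A :=
  let _ : CommGroup A := { mul_comm := h }
  have : NeZero (Monoid.exponent A) := ⟨Monoid.exponent_ne_zero_of_finite⟩
  CommGroup.card_monoidHom_of_hasEnoughRootsOfUnity A ℂ

theorem card_nq {H V : Type*} [Group H] [Finite H] [Group V] [Finite V] {φ : H →* MulAut V}
    [Fact q.Prime] (h : ∀ v, v ≠ 1 → Nq φ q v) (Q : Sylow q H) :
    Nat.card V + Nat.card (Sylow q H) = Nat.card (Sylow q H) * Nat.card (Fx φ Q) + 1 := by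
  classical
  choose g hg using fun R : Sylow q H => MulAction.exists_smul_eq H Q R
  have k : ∀ (R : Sylow q H) v, (R : Subgroup H) ≤ St φ (φ (g R) v) ↔ (Q : Subgroup H) ≤ St φ v :=
    fun R v => by
    have := hg R
    generalize g R = a at this
    subst this
    refine ⟨fun c x hx => ?_, ?_⟩
    · simpa [mul_assoc] using mem_St_ap.1 (c ⟨x, hx, rfl⟩)
    · rintro c _ ⟨x, hx, rfl⟩
      exact mem_St_ap.2 (by simpa [mul_assoc] using c hx)
  let f : Sylow q H × {v : Fx φ Q // v ≠ 1} → {v : V // v ≠ 1} := fun x =>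
    ⟨φ (g x.1) x.2.1, ap_ne _ fun e => x.2.2 (Subtype.ext e)⟩
  have hf : Function.Bijective f := by
    refine ⟨?_, fun v => ?_⟩
    · rintro ⟨R, v⟩ ⟨S, w⟩ e
      have e' : φ (g R) v.1 = φ (g S) w.1 := congrArg Subtype.val e
      obtain rfl : R = S := (h _ (f (R, v)).2).unique ((k R _).2 v.1.2) (e ▸ (k S _).2 w.1.2)
      rw [Subtype.ext (Subtype.ext ((φ (g R)).injective e')) (a1 := v)]
    · obtain ⟨R, hR, -⟩ := h v.1 v.2
      exact ⟨(R, ⟨⟨φ (g R)⁻¹ v.1, (k R _).1 (by rwa [ap_inv'])⟩,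
        fun e => ap_ne _ v.2 (congrArg Subtype.val e)⟩), Subtype.ext (ap_inv' ..)⟩
  have c : ∀ (A : Type _) [Group A] [Finite A], Nat.card A = Nat.card {a : A // a ≠ 1} + 1 :=
    fun A _ _ => by rw [← Finite.card_option, Nat.card_congr (Equiv.optionSubtypeNe 1)]
  rw [c V, show Nat.card (Fx φ Q) = Nat.card {a : Fx φ Q // a ≠ 1} + 1 by
    rw [← Finite.card_option, Nat.card_congr (Equiv.optionSubtypeNe 1)],
    ← Nat.card_eq_of_bijective f hf, Nat.card_prod]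
  ring

theorem pow_eq_of_count {n a b c d : ℕ} (hp : p.Prime) (hn : 1 < n) (ha : 1 < p ^ a) (hb : 1 < p ^ b)
    (h1 : p ^ a + n = n * p ^ c + 1) (h2 : p ^ b + n = n * p ^ d + 1) : p ^ a = p ^ b := by
  have key : ∀ {a b c d : ℕ}, 1 < p ^ a → p ^ a + n = n * p ^ c + 1 → p ^ b + n = n * p ^ d + 1 →
      1 < p ^ b → ¬ c < d := fun {a b c d} ha h1 h2 hb l => by
    have lt : ∀ {a c : ℕ}, 1 < p ^ a → p ^ a + n = n * p ^ c + 1 → c < a := fun {a c} ha h =>
      (Nat.pow_lt_pow_iff_right hp.one_lt).1 (by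
        have : 0 < p ^ c := pow_pos hp.pos c
        have : 1 < p ^ c := by nlinarith
        nlinarith)
    have d1 : p ^ (c + 1) ∣ p ^ a := pow_dvd_pow p (lt ha h1)
    have d2 : p ^ (c + 1) ∣ p ^ b := pow_dvd_pow p (l.trans (lt hb h2))
    have d3 : p ^ (c + 1) ∣ n * p ^ d := (pow_dvd_pow p l).mul_left n
    have d4 : p ^ (c + 1) ∣ n * p ^ c := by
      have e : n * p ^ c + p ^ b = p ^ a + n * p ^ d := by omega
      exact (Nat.dvd_add_left d2).1 (e ▸ Nat.dvd_add d1 d3)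
    rw [pow_succ', Nat.mul_dvd_mul_iff_right (pow_pos hp.pos c)] at d4
    have d5 : p ∣ n * p ^ c + 1 := h1 ▸ Nat.dvd_add ((dvd_pow_self p c.succ_ne_zero).trans d1) d4
    exact hp.one_lt.ne' (Nat.dvd_one.1 ((Nat.dvd_add_right (d4.mul_right _)).1 d5))
  obtain rfl : c = d := le_antisymm (not_lt.1 (key hb h2 h1 ha)) (not_lt.1 (key ha h1 h2 hb))
  omega

theorem isConj_of_vanish {x y : G} (h1 : ∀ θ : IrrCharacter G, charDegree θ.1 ≠ 1 → θ.1 x = 0)
    (h2 : ∀ μ : G →* ℂˣ, μ y = μ x) : IsConj y x := by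
  classical
  by_contra c
  have e := sum_irr_mul_conj_of_not_isConj c
  rw [Finset.sum_congr rfl (g := fun θ => if charDegree θ.1 = 1 then 1 else 0) fun θ _ => by
    split_ifs with h
    · obtain ⟨μ, e⟩ := exists_hom_of_isCharacter_one θ.2.isCharacter
        ((charDegree_eq_one_iff θ.2.isCharacter).1 h)
      rw [e]
      simp only [h2]
      rw [Complex.mul_conj, Complex.normSq_eq_norm_sq, Complex.norm_eq_one_of_pow_eq_one
        (n := Nat.card G) (by rw [← Units.val_pow_eq_pow_val, ← map_pow, pow_card_eq_one', map_one,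
          Units.val_one]) Nat.card_pos.ne']
      simp
    · rw [h1 θ h, map_zero, mul_zero], Finset.sum_boole, Nat.cast_eq_zero, Finset.card_eq_zero] at e
  exact Finset.notMem_empty _ (e ▸ Finset.mem_filter.2 ⟨Finset.mem_univ (lin 1), deg_lin 1⟩)

end Cfsg.Agent.Palfy
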