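import Cfsg.Agent.Palfy.CaseB

/-! A minimal counterexample to the three primes theorem has no normal Sylow subgroup. -/

set_option autoImplicit false

namespace Cfsg.Agent.Palfy.Bad

open Subgroup Cfsg.Agent.Char
open scoped commutatorElement

variable {G : Type*} [Group G] [Finite G] [Group.IsSolvable G] {p q r : ℕ} (B : Bad G p q r)
  {P : Subgroup G} [hP : P.Normal] (pP : IsPGroup p P) (iP : ¬ p ∣ P.index)

include B pP iP

theorem na : ¬ P ≤ centralizer P :=
  have := Fact.mk B.hp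
  B.dp.not_cent B.hp (pP.toSylow iP) hP

omit [Group.IsSolvable G] in
theorem ext (θ : IrrCharacter P) : Ext P θ :=
  have := Fact.mk B.hp
  ext_of_coprime P (pP.toSylow iP).card_coprime_index θ

omit [Group.IsSolvable G] iP in
theorem dvd_deg {θ : IrrCharacter P} (h : charDegree θ.1 ≠ 1) :
    p ∣ (inertia P (θ : P → ℂ)).index * charDegree θ.1 := by
  have := Fact.mk B.hp
  obtain ⟨k, e⟩ := pP.exists_card_eq
  obtain ⟨j, -, e⟩ := (Nat.dvd_prime_pow B.hp).1 (e ▸ charDegree_irr_dvd_card θ)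
  exact (e ▸ dvd_pow_self p (by rintro rfl; exact h e) : p ∣ _).mul_left _

omit [Group.IsSolvable G] iP hP in
theorem cop (Q : Sylow q G) : (Nat.card Q).Coprime (Nat.card P) :=
  have := Fact.mk B.hp
  have := Fact.mk B.hq
  IsPGroup.coprime_card_of_ne q p B.pq.symm _ _ Q.2 pP

theorem nn (Q : Sylow q G) (h : (Q : Subgroup G).Normal) : False := by
  have := Fact.mk B.hq
  obtain ⟨θ, hθ⟩ := exists_charDegree_ne_one (G := P) (by
    by_contra c
    push Not at c
    exact B.na pP iP fun a ha b hb => congrArg Subtype.val (c ⟨b, hb⟩ ⟨a, ha⟩))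
  obtain ⟨R, -, h1, -⟩ := (B.ext pP iP θ).sylow _ (QuotientGroup.mk'_surjective P)
    (QuotientGroup.ker_mk' P) B.hp B.hq B.pq (B.dvd_deg pP hθ) B.npq
  obtain ⟨R, rfl⟩ := Sylow.mapSurjective_surjective (QuotientGroup.mk'_surjective P) _ R
  have := Sylow.unique_of_normal Q h
  obtain rfl := Subsingleton.elim Q R
  refine B.dq.not_cent B.hq Q h fun a ha b hb => commutatorElement_eq_one_iff_mul_comm.1 (mem_bot.1
    ((disjoint_of_coprime_natCard (B.cop pP Q)).le_bot (mem_inf.2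
      ⟨mul_mem (mul_mem (mul_mem hb ha) (inv_mem hb)) (inv_mem ha), ?_⟩)))
  rw [← QuotientGroup.eq_one_iff, ← QuotientGroup.mk'_apply, map_commutatorElement,
    commutatorElement_eq_one_iff_mul_comm]
  exact h1 _ ⟨b, hb, rfl⟩ _ ⟨a, ha, rfl⟩

theorem nrm (Q : Sylow q G) {M : Subgroup G} (le : M ≤ P) (h : ((Q : Subgroup G) ⊔ M).Normal)
    (c : ∀ a ∈ (Q : Subgroup G), ∀ x ∈ P, ⁅a, x⁆ ∈ ⁅P, P⁆) : False := by
  have := Fact.mk B.hp
  have := Fact.mk B.hq
  refine B.nn pP iP Q (normal_of_cent Q h (le.trans (le_centralizer_iff.1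
    (Solv.le_centralizer_of_frattini _ P ((B.cop pP Q).coprime_dvd_right (card_subgroup_dvd_card _))
      fun a ha x hx => map_mono (Grp.PFrattini.commutator_le_frattini pP) ?_))))
  rw [map_subtype_commutator]
  exact c a ha x hx

theorem aux {K : Subgroup G} [K.Normal] (le : K ≤ ⁅P, P⁆) : Dv q (G ⧸ K) := by
  by_contra h
  obtain ⟨Q⟩ : Nonempty (Sylow q G) := inferInstance
  have h := (syl_of_not_dv B.hq h Q).1
  have l := le.trans (commutator_le_left P P)
  refine B.nrm pP iP Q l h fun a ha x hx => le ?_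
  have m1 : ⁅a, x⁆ ∈ P := mul_mem (hP.conj_mem x hx a) (inv_mem hx)
  have m2 : ⁅a, x⁆ ∈ (Q : Subgroup G) ⊔ K := by
    have := mul_mem (mem_sup_left ha) (h.conj_mem _ (inv_mem (mem_sup_left ha)) x)
    simpa [commutatorElement_def, mul_assoc] using this
  obtain ⟨b, hb, n, hn, e⟩ := mem_sup_of_normal_right.1 m2
  have : b = 1 := mem_bot.1 ((disjoint_of_coprime_natCard (B.cop pP Q)).le_bot (mem_inf.2 ⟨hb, by
    rw [eq_mul_inv_of_mul_eq e]; exact mul_mem m1 (inv_mem (l hn))⟩))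
  rwa [← e, this, one_mul]

theorem mn (K : Subgroup G) (hK : K.Normal) (le : K ≤ ⁅P, P⁆) : K = ⊥ ∨ K = ⁅P, P⁆ := by
  have := Fact.mk B.hp
  refine or_iff_not_imp_left.2 fun ne => le_antisymm le ?_
  rcases B.ih K ne with h | h | h
  · exact commutator_le.2 (syl_of_not_dv B.hp h (pP.toSylow iP)).2
  · exact absurd (B.aux pP iP le) h
  · exact absurd (B.s23.aux pP iP le) h

theorem ne_bot : ⁅P, P⁆ ≠ ⊥ := mt commutator_eq_bot_iff_le_centralizer.1 (B.na pP iP)

theorem cen : ⁅P, P⁆ ≤ centralizer P := by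
  have := Fact.mk B.hp
  obtain ⟨z, h1, h2, h3⟩ := exists_cent (E := ⁅P, P⁆) inferInstance
    (pP.to_le (commutator_le_left P P)) pP (B.ne_bot pP iP)
  exact inf_eq_left.1 ((B.mn pP iP _ inferInstance inf_le_left).resolve_left fun e =>
    h2 (mem_bot.1 (e.le ⟨h1, h3⟩)))

theorem cen' : ⁅P, P⁆ ≤ centralizer (⁅P, P⁆ : Subgroup G) :=
  (B.cen pP iP).trans (centralizer_le (SetLike.coe_subset_coe.2 (commutator_le_left P P)))

theorem hM (μ : (⁅P, P⁆ : Subgroup G) →* ℂˣ) : P ≤ St (dual ⁅P, P⁆) μ :=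
  (le_centralizer_iff.1 (B.cen pP iP)).trans (cent_le_St _ μ)

theorem nq (μ : (⁅P, P⁆ : Subgroup G) →* ℂˣ) (hμ : μ ≠ 1) : Nq (qdual ⁅P, P⁆ P (B.hM pP iP)) q μ := by
  have := Fact.mk B.hp
  have le := commutator_le_left P P
  have i : InvBy (St (dual ⁅P, P⁆) μ) (lin μ).1 := fun s hs g g' e =>
    congrArg Units.val ((congrArg μ (Subtype.ext e)).trans (mem_St_dual.1 hs g))
  obtain ⟨θ, h1, h2⟩ := exists_invBy_above_abelian le le_normalizer_of_normal le_rfl
    (S := St (dual ⁅P, P⁆) μ) le_normalizer_of_normal le_normalizer_of_normal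
    (((pP.toSylow iP).card_coprime_index.coprime_dvd_left (relIndex_dvd_card _ _)).coprime_dvd_right
      (relIndex_dvd_index_of_normal _ _)) (lin μ) i
  have e := restrict_eq_of_invBy le le_normalizer_of_normal θ (i.mono (B.hM pP iP μ)) h1
  refine (B.ext pP iP θ).nq _ (le_antisymm (fun g hg => mem_St_dual.2 fun n => ?_) fun g hg =>
    (mem_inertia' _).2 fun n => h2 g hg _ _ rfl) B.hp B.hq B.pq (B.dvd_deg pP fun c => hμ ?_) B.npq
  · have := (mem_inertia' _).1 hg ⟨n, le n.2⟩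
    rw [e n, e ⟨g * n * g⁻¹, Normal.conj_mem inferInstance _ n.2 g⟩] at this
    exact Units.ext (mul_left_cancel₀ (Nat.cast_ne_zero.2 h1) this)
  · obtain ⟨ν, e'⟩ := exists_hom_of_isCharacter_one θ.2.isCharacter
      ((charDegree_eq_one_iff θ.2.isCharacter).1 c)
    have k : ∀ n : (⁅P, P⁆ : Subgroup G), (1 : ℂ) = nmult le θ.1 (lin μ).1 * μ n := fun n => by
      obtain ⟨m, hm, e2⟩ := (map_subtype_commutator P).ge n.2
      rw [← show _ = _ * (μ n : ℂ) from e n, e', show (⟨n, _⟩ : P) = m from Subtype.ext e2.symm]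
      exact (congrArg Units.val (Abelianization.commutator_subset_ker ν hm)).symm
    refine MonoidHom.ext fun n => Units.ext (mul_left_cancel₀ (Nat.cast_ne_zero.2 h1) ?_)
    rw [← k n, k 1, map_one]
    rfl

theorem ex (Q : Sylow q G) (h : ((Q : Subgroup G) ⊔ P).Normal) : Fx (V := P →* ℂˣ) (dual P) Q ≠ ⊤ :=
  fun e => B.nrm pP iP Q le_rfl h fun _ ha _ hx =>
    comm_mem_of_St (fun μ => e.ge (mem_top μ) ha) hx

omit B pP iP [Group.IsSolvable G] in
theorem not_le [Fact q.Prime] (Q : Sylow q G) (h : ((Q : Subgroup G) ⊔ P).Normal) {μ : P →* ℂˣ}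
    (hμ : ¬ (Q : Subgroup G) ≤ St (dual P) μ) (R : Sylow q G) : ¬ (R : Subgroup G) ≤ St (dual P) μ :=
  fun c => by
  have := Sylow.unique_of_normal _ ((normal_sup_iff Q P).2 h)
  have e := Subsingleton.elim (R.mapSurjective (QuotientGroup.mk'_surjective P))
    (Q.mapSurjective (QuotientGroup.mk'_surjective P))
  refine hμ fun g hg => ?_
  obtain ⟨a, ha, e⟩ := (congrArg Sylow.toSubgroup e).ge ⟨g, hg, rfl⟩
  rw [← mul_inv_cancel_left a g]
  exact mul_mem (c ha) (self_le_St P μ (QuotientGroup.eq.1 e))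

theorem A1 (Q : Sylow q G) (R : Sylow r G) (h : ((Q : Subgroup G) ⊔ P).Normal)
    (k : ((R : Subgroup G) ⊔ P).Normal) : False := by
  have := Fact.mk B.hq
  have := Fact.mk B.hr
  obtain ⟨μ, h1, h2⟩ : ∃ μ, μ ∉ Fx (V := P →* ℂˣ) (dual P) Q ∧ μ ∉ Fx (V := P →* ℂˣ) (dual P) R := by
    by_contra c
    push Not at c
    obtain ⟨a, ha⟩ := not_forall.1 (mt (eq_top_iff' _).2 (B.ex pP iP Q h))
    obtain ⟨b, hb⟩ := not_forall.1 (mt (eq_top_iff' _).2 (B.s23.ex pP iP R k))
    have hb' := not_not.1 (mt (c b) hb)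
    exact hb ((mul_mem_cancel_left (c a ha)).1 (c _ (mt (mul_mem_cancel_right hb').1 ha)))
  exact B.nqr (dv_two P μ B.hq B.hr B.qr (not_le Q h h1) (not_le R k h2))

omit B pP iP [Finite G] [Group.IsSolvable G] hP in
theorem pw {S : Subgroup G} {g : G} (h : g ∈ S) : g ^ Nat.card S = 1 :=
  congrArg Subtype.val (pow_card_eq_one' (x := (⟨g, h⟩ : S)))

omit [Group.IsSolvable G] iP hP in
theorem dual_pow {N : Subgroup G} (le : N ≤ P) (U : Subgroup (N →* ℂˣ)) : ∃ k, Nat.card U = p ^ k :=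
  have := Fact.mk B.hp
  IsPGroup.exists_card_eq fun μ => by
    obtain ⟨k, e⟩ := (pP.to_le le).exists_card_eq
    exact ⟨k, Subtype.ext (MonoidHom.ext fun n => by
      rw [SubgroupClass.coe_pow, MonoidHom.pow_apply, ← map_pow, ← e, pow_card_eq_one', map_one]; rfl)⟩

theorem vanish (R : Sylow r G) (k : ((R : Subgroup G) ⊔ P).Normal) {x : P} (θ : IrrCharacter P)
    (hθ : charDegree θ.1 ≠ 1) (n : θ.1 x ≠ 0) {a : G} (ha : a ∈ (R : Subgroup G)) :
    ⁅a, x.1⁆ ∈ ⁅P, P⁆ := by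
  have := Fact.mk B.hr
  have c : ∀ θ : IrrCharacter P, charDegree θ.1 ≠ 1 → a ∈ inertia P θ.1 := fun θ hθ => by
    obtain ⟨S, h1, -⟩ := (B.ext pP iP θ).sylow _ (QuotientGroup.mk'_surjective P)
      (QuotientGroup.ker_mk' P) B.hp B.hr B.pr (B.dvd_deg pP hθ) B.npr
    have := Sylow.unique_of_normal _ ((normal_sup_iff R P).2 k)
    rw [Subsingleton.elim S (R.mapSurjective (QuotientGroup.mk'_surjective P))] at h1
    obtain ⟨b, hb, e⟩ := h1 ⟨a, ha, rfl⟩
    rw [← mul_inv_cancel_left b a]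
    exact mul_mem hb (le_inertia' P θ (QuotientGroup.eq.1 e))
  rw [← map_subtype_commutator]
  refine ⟨⟨_, hP.conj_mem x x.2 a⟩ * x⁻¹, mem_commutator_of_forall_hom fun μ => ?_, rfl⟩
  have e := (mem_inertia' _).1 (c ⟨_, θ.2.mul_linear μ⟩ (by
    rw [Ne, charDegree_eq_one_iff (θ.2.mul_linear μ).isCharacter, map_one, Units.val_one, mul_one]
    exact mt (charDegree_eq_one_iff θ.2.isCharacter).2 hθ)) x
  simp only [(mem_inertia' _).1 (c θ hθ) x] at e
  rw [map_mul, map_inv, Units.ext (mul_left_cancel₀ n e), mul_inv_cancel]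

theorem A2 (Q : Sylow q G) (R : Sylow r G) (h : ¬ ((Q : Subgroup G) ⊔ P).Normal)
    (k : ((R : Subgroup G) ⊔ P).Normal) : False := by
  have := Fact.mk B.hq
  have := Fact.mk B.hr
  have le := commutator_le_left P P
  have co := B.s23.cop pP R
  have c1 := cent_of_St (B.cen' pP iP) (le_St_of_normal (B.s23.nq pP iP) R k)
  have m : ∀ a, ∀ x ∈ P, ⁅a, x⁆ ∈ P := fun a x hx => mul_mem (hP.conj_mem x hx a) (inv_mem hx)
  set C := P ⊓ centralizer (R : Subgroup G) with hC
  have c2 : ∀ x ∈ P, (∀ a ∈ (R : Subgroup G), ⁅a, x⁆ ∈ C) → x ∈ C := fun x hx c =>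
    ⟨hx, fun a ha => comm_of_cop (pw ha) (pw (m a x hx)) co.symm ((c a ha).2 a ha)⟩
  have l2 : ⁅P, P⁆ ≤ C := le_inf le c1
  have nC : C.Normal := ⟨fun x hx g => c2 _ (hP.conj_mem x hx.1 g) fun a ha => l2 (by
    obtain ⟨b, hb, y, hy, e⟩ := mem_sup_of_normal_right.1 (k.conj_mem' a (mem_sup_left ha) g)
    have : ⁅a, g * x * g⁻¹⁆ = g * b * ⁅y, x⁆ * (g * b)⁻¹ * (g * ⁅b, x⁆ * g⁻¹) := by
      rw [show a = g * (b * y) * g⁻¹ by rw [e]; group]
      simp only [commutatorElement_def]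
      group
    rw [this, commutatorElement_eq_one_iff_mul_comm.2 (hx.2 b hb), mul_one g, mul_inv_cancel, mul_one]
    exact Normal.conj_mem inferInstance _ (commutator_mem_commutator hy hx.1) _)⟩
  obtain ⟨a, ha, y, hy, hx⟩ : ∃ a ∈ (R : Subgroup G), ∃ y ∈ P, ⁅a, y⁆ ∉ C := by
    by_contra c
    push Not at c
    exact B.s23.nn pP iP R (normal_of_cent R k fun y hy => (c2 y hy fun a ha => c a ha y hy).2)
  let x : P := ⟨_, m a y hy⟩
  have x1 : C.subgroupOf P < centralizer {x} := lt_of_le_of_ne (fun c hc => by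
    have a1 : a ∈ centralizer (C : Set G) := fun c hc => (hc.2 a ha).symm
    have : x.1 ∈ centralizer (C : Set G) := by
      have := mul_mem a1 (Normal.conj_mem inferInstance _ (inv_mem a1) y)
      simpa [x, commutatorElement_def, mul_assoc] using this
    exact mem_centralizer_singleton_iff.2 (Subtype.ext (this c hc)))
    fun e => hx (e.ge (mem_centralizer_singleton_iff.2 rfl))
  have x2 : ∀ n : (⁅P, P⁆ : Subgroup G), ∃ c : P, c * x * c⁻¹ = x * inclusion le n := fun n =>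
    isConj_iff.1 (isConj_of_vanish (fun θ hθ => by_contra fun c =>
      hx (c2 _ x.2 fun b hb => l2 (B.vanish pP iP R k θ hθ c hb))) fun μ => by
        obtain ⟨u, hu, e⟩ := (map_subtype_commutator P).ge n.2
        rw [map_mul, show inclusion le n = u from Subtype.ext e.symm,
          show μ u = 1 from Abelianization.commutator_subset_ker μ hu, mul_one]).symm
  choose c hc using x2
  have x3 : Nat.card (⁅P, P⁆ : Subgroup G) ≤ (centralizer {x}).index :=
    Nat.card_le_card_of_injective (fun n => (c n : P ⧸ centralizer {x})) fun n u e => by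
      refine inclusion_injective le (mul_left_cancel (a := x) ?_)
      rw [← hc, ← hc, ← mul_inv_cancel_left (c n) (c u), mul_assoc (c n) _ x,
        mem_centralizer_singleton_iff.1 (QuotientGroup.eq.1 e)]
      group
  let U := (MonoidHom.domRestrictHom (C.subgroupOf P) ℂˣ).ker
  have u1 : ∀ μ, μ ∈ U ↔ ∀ n : P, n.1 ∈ C → μ n = 1 := fun μ => MonoidHom.domRestrict_eq_one_iff
  have u2 : Nat.card U = (C.subgroupOf P).index := by
    rw [Nat.card_congr (MonoidHom.domRestrictHomKerEquiv ℂˣ _).toEquiv, card_dual, index_eq_card]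
    intro a b
    obtain ⟨a, rfl⟩ := QuotientGroup.mk_surjective a
    obtain ⟨b, rfl⟩ := QuotientGroup.mk_surjective b
    rw [← commutatorElement_eq_one_iff_mul_comm, ← QuotientGroup.mk'_apply, ← QuotientGroup.mk'_apply,
      ← map_commutatorElement, QuotientGroup.mk'_apply, QuotientGroup.eq_one_iff]
    exact l2 (commutator_mem_commutator a.2 b.2)
  have u3 : Inv (V := P →* ℂˣ) (qdual P P (self_le_St P)) U := fun g μ hμ => by
    obtain ⟨g, rfl⟩ := QuotientGroup.mk_surjective g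
    exact (u1 _).2 fun n hn => (dual_apply P g μ n).trans ((u1 μ).1 hμ _ (nC.conj_mem' _ hn g))
  have u4 : ∀ μ : U, μ ≠ 1 → Nq (res _ U u3) q μ := fun μ hμ => by
    unfold Nq
    rw [St_res]
    refine (B.ext pP iP (lin μ.1)).nq _ (inertia_lin P μ.1) B.hr B.hq B.qr.symm ?_
      (mul_comm q r ▸ B.nqr)
    rw [deg_lin, mul_one, inertia_lin]
    exact prime_dvd_index_iff.2 (not_le R k fun c => hμ (Subtype.ext (eq_one_of_St c ((u1 _).1 μ.2)
      ((Solv.coprime_commutator_sup_centralizer _ P le_normalizer_of_normal co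
        (Or.inl inferInstance)).ge.trans (sup_le_sup_left (le_inf inf_le_left le_rfl) _)))))
  let Q' := Q.mapSurjective (QuotientGroup.mk'_surjective P)
  have e1 := card_nq (V := (⁅P, P⁆ : Subgroup G) →* ℂˣ) (B.nq pP iP) Q'
  have e2 := card_nq u4 Q'
  have d1 := card_dual fun a b : (⁅P, P⁆ : Subgroup G) => Subtype.ext (B.cen' pP iP b.2 a a.2)
  have d2 : 1 < Nat.card (⁅P, P⁆ : Subgroup G) := (one_lt_card_iff_ne_bot _).2 (B.ne_bot pP iP)
  have d3 := x3.trans_lt (index_strictAnti x1)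
  obtain ⟨i, hi⟩ := B.dual_pow pP le ⊤
  obtain ⟨j, hj⟩ := B.dual_pow pP le_rfl U
  obtain ⟨i', hi'⟩ := B.dual_pow pP le (Fx (qdual _ P (B.hM pP iP)) Q'.1)
  obtain ⟨j', hj'⟩ := B.dual_pow pP le_rfl ((Fx (res _ U u3) Q').map U.subtype)
  rw [card_top] at hi
  rw [card_subtype] at hj'
  rw [hi, hi'] at e1
  rw [hj, hj'] at e2
  have := pow_eq_of_count B.hp (Finite.one_lt_card_iff_nontrivial.2 (not_subsingleton_iff_nontrivial.1
    fun _ => h ((normal_sup_iff Q P).1 (Sylow.normal_of_subsingleton _)))) (by omega) (by omega) e1 e2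
  omega

theorem caseA : False := by
  have := Fact.mk B.hq
  have := Fact.mk B.hr
  by_cases h : ∃ Q : Sylow q G, ((Q : Subgroup G) ⊔ P).Normal <;>
    by_cases k : ∃ Q : Sylow r G, ((Q : Subgroup G) ⊔ P).Normal
  · exact h.elim fun Q h => k.elim fun R k => B.A1 pP iP Q R h k
  · exact h.elim fun Q h => B.s23.A2 pP iP default Q (fun c => k ⟨_, c⟩) h
  · exact k.elim fun Q k => B.A2 pP iP default Q (fun c => h ⟨_, c⟩) k
  · exact B.kl (B.ne_bot pP iP) (B.cen' pP iP) (B.nq pP iP) (B.s23.nq pP iP) (not_exists.1 h)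
      (not_exists.1 k)

omit pP iP in
theorem false : False := by
  have := Fact.mk B.hp
  have := Fact.mk B.hq
  have := Fact.mk B.hr
  have np : ∀ P : Sylow p G, ¬ (P : Subgroup G).Normal := fun P _ => B.caseA P.2 P.not_dvd_index
  have nq : ∀ P : Sylow q G, ¬ (P : Subgroup G).Normal := fun P _ => B.s12.caseA P.2 P.not_dvd_index
  have nr : ∀ P : Sylow r G, ¬ (P : Subgroup G).Normal := fun P _ =>
    B.s23.s12.caseA P.2 P.not_dvd_index
  have : Nontrivial G := not_subsingleton_iff_nontrivial.1 fun _ =>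
    np default ⟨fun a h g => Subsingleton.elim a (g * a * g⁻¹) ▸ h⟩
  obtain ⟨-, N, -, h1, h2, h3, -, -, h4⟩ := Grp.exists_minNormal_elementaryAbelian G
  have c := le_centralizer N
  rcases B.ih N h2 with h | h | h
  exacts [B.caseB np nq nr h2 c h4 h, B.s12.caseB nq np nr h2 c h4 h, B.s23.s12.caseB nr np nq h2 c h4 h]

end Cfsg.Agent.Palfy.Bad
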