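import Cfsg.Agent.Palfy.Tools

/-! A minimal counterexample to the three primes theorem has a normal Sylow subgroup. -/

set_option autoImplicit false

namespace Cfsg.Agent.Palfy

open Subgroup Cfsg.Agent.Char
open scoped commutatorElement

/-- a minimal counterexample -/
structure Bad (G : Type*) [Group G] (p q r : ℕ) : Prop where
  hp : p.Prime
  hq : q.Prime
  hr : r.Prime
  pq : p ≠ q
  qr : q ≠ r
  pr : p ≠ r
  dp : Dv p G
  dq : Dv q G
  dr : Dv r G
  npq : ¬ Dv (p * q) G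
  nqr : ¬ Dv (q * r) G
  npr : ¬ Dv (p * r) G
  ih : ∀ (N : Subgroup G) [N.Normal], N ≠ ⊥ → ¬ Dv p (G ⧸ N) ∨ ¬ Dv q (G ⧸ N) ∨ ¬ Dv r (G ⧸ N)

variable {G : Type*} [Group G] {p q r : ℕ}

theorem Bad.s12 (B : Bad G p q r) : Bad G q p r :=
  ⟨B.hq, B.hp, B.hr, B.pq.symm, B.pr, B.qr, B.dq, B.dp, B.dr, mul_comm p q ▸ B.npq, B.npr, B.nqr,
    fun N _ h => or_left_comm.1 (B.ih N h)⟩

theorem Bad.s23 (B : Bad G p q r) : Bad G p r q :=
  ⟨B.hp, B.hr, B.hq, B.pr, B.qr.symm, B.pq, B.dp, B.dr, B.dq, B.npr, mul_comm q r ▸ B.nqr, B.npq,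
    fun N _ h => (B.ih N h).imp_right Or.symm⟩

variable [Finite G] [Group.IsSolvable G]

omit [Group.IsSolvable G] in
theorem nontrivial_dual {N : Subgroup G} (ne : N ≠ ⊥) (c : N ≤ centralizer N) : Nontrivial (N →* ℂˣ) := by
  rw [← Finite.one_lt_card_iff_nontrivial, card_dual fun a b => Subtype.ext (c b.2 a a.2)]
  exact (one_lt_card_iff_ne_bot N).2 ne

theorem Bad.kl (B : Bad G p q r) {N M : Subgroup G} [N.Normal] [M.Normal] (ne : N ≠ ⊥)
    (c : N ≤ centralizer N) {hM : ∀ μ : N →* ℂˣ, M ≤ St (dual N) μ}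
    (h1 : ∀ μ : N →* ℂˣ, μ ≠ 1 → Nq (qdual N M hM) q μ)
    (h2 : ∀ μ : N →* ℂˣ, μ ≠ 1 → Nq (qdual N M hM) r μ)
    (n1 : ∀ Q : Sylow q G, ¬ ((Q : Subgroup G) ⊔ M).Normal)
    (n2 : ∀ Q : Sylow r G, ¬ ((Q : Subgroup G) ⊔ M).Normal) : False := by
  have := nontrivial_dual ne c
  have k : ∀ {s}, s.Prime → (∀ Q : Sylow s G, ¬ ((Q : Subgroup G) ⊔ M).Normal) →
      ∀ Q : Sylow s (G ⧸ M), ¬ (Q : Subgroup (G ⧸ M)).Normal := fun hs n Q h => by
    have := Fact.mk hs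
    obtain ⟨Q, rfl⟩ := Sylow.mapSurjective_surjective (QuotientGroup.mk'_surjective M) _ Q
    exact n Q ((normal_sup_iff Q M).1 h)
  have o1 : One (V := N →* ℂˣ) (qdual N M hM) q := ⟨B.hq, h1, k B.hq n1⟩
  have o2 : One (V := N →* ℂˣ) (qdual N M hM) r := ⟨B.hr, h2, k B.hr n2⟩
  exact B.nqr ((KL (V := N →* ℂˣ) o1 o2 B.qr).of_surj _ (QuotientGroup.mk'_surjective M))

theorem Bad.caseB (B : Bad G p q r) (np : ∀ P : Sylow p G, ¬ (P : Subgroup G).Normal)
    (nq : ∀ P : Sylow q G, ¬ (P : Subgroup G).Normal) (nr : ∀ P : Sylow r G, ¬ (P : Subgroup G).Normal)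
    {N : Subgroup G} [hN : N.Normal] (ne : N ≠ ⊥) (c : N ≤ centralizer N)
    (mn : ∀ K : Subgroup G, K.Normal → K ≤ N → K = ⊥ ∨ K = N) (h : ¬ Dv p (G ⧸ N)) : False := by
  have := Fact.mk B.hp
  obtain ⟨P⟩ : Nonempty (Sylow p G) := inferInstance
  have hP := fun P => (syl_of_not_dv B.hp h P).1
  have k1 : normalizer (P : Set G) ⊔ N = ⊤ := by
    have := hP P
    have := Sylow.normalizer_sup_eq_top' P (le_sup_left : _ ≤ (P : Subgroup G) ⊔ N)
    rwa [← sup_assoc, sup_eq_left.2 (show (P : Subgroup G) ≤ normalizer (P : Set G) from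
      le_normalizer)] at this
  have k2 : N ⊓ normalizer (P : Set G) = ⊥ := (mn _ (normalizer_eq_top_iff.1 (eq_top_iff.2
    (k1.ge.trans (sup_le (fun g hg => ?_) ((c.trans (centralizer_le (SetLike.coe_subset_coe.2
      inf_le_left))).trans (centralizer_le_normalizer _)))))) inf_le_left).resolve_right
      fun e => np P (normalizer_eq_top_iff.1 (k1 ▸ (sup_eq_left.2 (e.ge.trans inf_le_right)).symm))
  swap
  · exact mem_normalizer_fintype fun n hn => mem_inf.2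
      ⟨hN.conj_mem n hn.1 g, mul_mem (mul_mem hg hn.2) (inv_mem hg)⟩
  have co : N.IsComplement' (normalizer (P : Set G)) :=
    isComplement'_of_disjoint_and_mul_eq_univ (disjoint_iff.2 k2) (by
      rw [← normal_mul, sup_comm, k1, coe_top])
  have k3 : ∀ μ : N →* ℂˣ, μ ≠ 1 → p ∣ (inertia N (lin μ : N → ℂ)).index * charDegree (lin μ : N → ℂ) :=
    fun μ hμ => by
    rw [deg_lin, mul_one, inertia_lin]
    refine prime_dvd_index_iff.2 fun S hS => ?_
    have := hP S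
    rcases mn ⁅N, (S : Subgroup G) ⊔ N⁆ inferInstance (commutator_le_left _ _) with e | e
    · exact np S (normal_of_cent S this ((commutator_eq_bot_iff_le_centralizer.1 e).trans
        (centralizer_le (SetLike.coe_subset_coe.2 le_sup_left))))
    · exact hμ (eq_one_of_St (C := ⊥) (sup_le hS (self_le_St N μ))
        (fun n hn => by rw [show n = 1 from Subtype.ext hn, map_one]) (e.ge.trans le_sup_left))
  have k4 : ∀ {s}, s.Prime → p ≠ s → ¬ Dv (p * s) G → ∀ μ : N →* ℂˣ, μ ≠ 1 →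
      Nq (qdual N N (self_le_St N)) s μ := fun hs n no μ hμ =>
    (ext_of_compl N co μ).nq _ (inertia_lin N μ) B.hp hs n (k3 μ hμ) no
  have := Fact.mk B.hq
  have := Fact.mk B.hr
  exact B.kl ne c (k4 B.hq B.pq B.npq) (k4 B.hr B.pr B.npr)
    (fun Q h => nq Q (normal_of_cent Q h (cent_of_St c (le_St_of_normal (k4 B.hq B.pq B.npq) Q h))))
    fun Q h => nr Q (normal_of_cent Q h (cent_of_St c (le_St_of_normal (k4 B.hr B.pr B.npr) Q h)))

end Cfsg.Agent.Palfy
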