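import Cfsg.Agent.Palfy.Defs

/-! Abelian normal subgroups are cyclic. -/

set_option autoImplicit false

namespace Cfsg.Agent.Palfy

open Subgroup

variable {H V : Type*} [Group H] [CommGroup V] {φ : H →* MulAut V} {q : ℕ} {B : Subgroup H}
  {u v w : V}

theorem kill (hB : ∀ a ∈ B, ∀ b ∈ B, a * b = b * a) (m : Mx φ B v) (n : ℕ) :
    ∀ (l : List V) (w : V), l.length = n → B ⊓ St φ v ≤ St φ w →
      (∀ u ∈ l, ¬ B ⊓ St φ u ≤ St φ v) → w * l.prod = 1 → w = 1 := by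
  induction n with
  | zero => intro l w h _ _ e; rw [List.length_eq_zero_iff.1 h] at e; simpa using e
  | succ n ih =>
    rintro (_ | ⟨u, l⟩) w h hw hl e
    · simp at h
    obtain ⟨a, ⟨a1, a2⟩, a3⟩ := SetLike.not_le_iff_exists.1 (hl u (by simp))
    let δ : V →* V := (φ a).toMonoidHom * (MonoidHom.id V)⁻¹
    have hδ : ∀ x, δ x = φ a x * x⁻¹ := fun _ => rfl
    have st : ∀ x, B ⊓ St φ x ≤ St φ (δ x) := fun x b hb => by
      rw [mem_St, hδ, map_mul, map_inv, ← ap_mul, hB b hb.1 a a1, ap_mul, mem_St.1 hb.2]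
    have := ih (l.map δ) (δ w) (by simpa using h) ((le_inf inf_le_left hw).trans (st w))
      (fun x hx c => by
        obtain ⟨y, hy, rfl⟩ := List.mem_map.1 hx
        exact hl y (by simp [hy]) ((le_inf inf_le_left (st y)).trans c)) (by
        have := congrArg δ e
        rwa [List.prod_cons, map_mul, map_mul, map_list_prod, map_one, hδ u, mem_St.1 a2,
          mul_inv_cancel, one_mul] at this)
    by_contra n
    exact a3 (m.mx w n hw ⟨a1, mul_inv_eq_one.1 this⟩)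

theorem Mx.eq (m : Mx φ B v) (hw : w ≠ 1) (h : B ⊓ St φ v ≤ St φ w) : B ⊓ St φ v = B ⊓ St φ w :=
  le_antisymm (le_inf inf_le_left h) (le_inf inf_le_left (m.mx w hw h))

theorem St_inv (v : V) : St φ v⁻¹ = St φ v := Subgroup.ext fun _ => by
  rw [mem_St, mem_St, map_inv, inv_inj]

variable [hn : B.Normal]

theorem mem_inf_ap {g h : H} : h ∈ B ⊓ St φ (φ g v) ↔ g⁻¹ * h * g ∈ B ⊓ St φ v :=
  and_congr ⟨fun e => hn.conj_mem' h e g, fun e => by simpa [mul_assoc] using hn.conj_mem _ e g⟩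
    mem_St_ap

theorem inf_ap_congr (g : H) (e : B ⊓ St φ v = B ⊓ St φ w) :
    B ⊓ St φ (φ g v) = B ⊓ St φ (φ g w) := Subgroup.ext fun _ => by rw [mem_inf_ap, mem_inf_ap, e]

theorem Mx.ap (m : Mx φ B v) (g : H) : Mx φ B (φ g v) := ⟨ap_ne g m.ne, fun w hw h => by
  have := m.eq (ap_ne g⁻¹ hw) fun x hx => mem_St_ap.2 (h (mem_inf_ap.2 (by simpa [mul_assoc] using hx)))
  have := inf_ap_congr g this
  rw [ap_inv'] at this
  exact this.ge.trans inf_le_right⟩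

theorem Mx.two [Finite H] (hB : ∀ a ∈ B, ∀ b ∈ B, a * b = b * a) (m : Mx φ B v) (k : Mx φ B w)
    (n : B ⊓ St φ v ≠ B ⊓ St φ w) {S : Subgroup H} (hS : Odd (Nat.card S)) (h : S ≤ St φ (v * w)) :
    S ≤ St φ v := by
  have a : ∀ {v w}, Mx φ B v → Mx φ B w → B ⊓ St φ v ≠ B ⊓ St φ w → ∀ g ∈ St φ (v * w),
      B ⊓ St φ (φ g v) = B ⊓ St φ v ∨ B ⊓ St φ (φ g v) = B ⊓ St φ w := fun {v w} m k n g hg => by
    by_contra c
    push Not at c
    refine ap_ne g m.ne (kill hB (m.ap g) 3 [φ g w, v⁻¹, w⁻¹] _ rfl inf_le_right ?_ ?_)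
    · simp only [List.forall_mem_cons, St_inv]
      refine ⟨fun e => n ?_, fun e => c.1 (m.eq (ap_ne g m.ne) e).symm,
        fun e => c.2 (k.eq (ap_ne g m.ne) e).symm, by simp⟩
      simpa only [ap_inv] using inf_ap_congr g⁻¹ ((k.ap g).eq (ap_ne g m.ne) e).symm
    · rw [List.prod_cons, ← mul_assoc, ← map_mul, mem_St.1 hg]
      simp only [List.prod_cons, List.prod_nil, mul_one]
      rw [← mul_inv, mul_inv_cancel]
  have b : ∀ {v w}, Mx φ B v → Mx φ B w → B ⊓ St φ v ≠ B ⊓ St φ w → S ≤ St φ (v * w) → ∀ g ∈ S,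
      B ⊓ St φ (φ g v) = B ⊓ St φ v := fun {v w} m k n h g hg => by
    refine (a m k n g (h hg)).resolve_right fun e => n ?_
    have e2 := (a k m n.symm g (mul_comm v w ▸ h hg)).resolve_left fun c => n (by
      simpa only [ap_inv] using inf_ap_congr g⁻¹ (e.trans c.symm))
    have e3 : ∀ j : ℕ, B ⊓ St φ (φ ((g * g) ^ j) v) = B ⊓ St φ v := fun j => by
      induction j with
      | zero => simp
      | succ j ih => rw [pow_succ', ap_mul, inf_ap_congr _ ih, ap_mul, inf_ap_congr g e, e2]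
    obtain ⟨j, hj⟩ := hS
    have e4 : (g * g) ^ (j + 1) = g := by
      have : g ^ Nat.card S = 1 := congrArg Subtype.val (pow_card_eq_one' (x := (⟨g, hg⟩ : S)))
      rw [← sq, ← pow_mul, show 2 * (j + 1) = 2 * j + 1 + 1 by ring, pow_succ, ← hj, this, one_mul]
    rw [← e3 (j + 1), e4, e]
  intro g hg
  have e1 := b m k n h g hg
  have e2 := b k m n.symm (mul_comm v w ▸ h) g hg
  have e3 : φ g v * v⁻¹ = (φ g w * w⁻¹)⁻¹ := by
    rw [eq_inv_iff_mul_eq_one, mul_mul_mul_comm, ← map_mul, mem_St.1 (h hg), ← mul_inv, mul_inv_cancel]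
  have f : ∀ {v}, B ⊓ St φ (φ g v) = B ⊓ St φ v → B ⊓ St φ v ≤ St φ (φ g v * v⁻¹) := fun {v} e =>
    (Fx φ _).mul_mem (e.ge.trans inf_le_right) ((Fx φ _).inv_mem (mem_Fx.2 inf_le_right))
  by_contra c
  have c' : φ g v * v⁻¹ ≠ 1 := fun e => c (mul_inv_eq_one.1 e)
  exact n ((m.eq c' (f e1)).trans (k.eq c' (by rw [e3, St_inv]; exact f e2)).symm)

theorem One.cyc [Finite H] [Finite V] (O : One φ q) (I : Irr φ) (hq : q ≠ 2)
    (hB : ∀ a ∈ B, ∀ b ∈ B, a * b = b * a) : IsCyclic B := by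
  have := Fact.mk O.prime
  have := I.nt
  obtain ⟨v, m⟩ := exists_mx φ B
  by_cases c : ∀ w, Mx φ B w → B ⊓ St φ v = B ⊓ St φ w
  · have e : B ⊓ St φ v = ⊥ := I.fix ⟨fun x hx g => by
      rw [c _ (m.ap g), mem_inf_ap]; simpa [mul_assoc] using hx⟩ m.ne inf_le_right
    obtain ⟨a, ha, k⟩ := m.cyc hB
    refine ⟨⟨a, ha⟩, fun x => ?_⟩
    obtain ⟨n, hn⟩ := k x x.2
    exact ⟨n, Subtype.ext (inv_mul_eq_one.1 (mem_bot.1
      (e.le ⟨B.mul_mem (B.inv_mem (zpow_mem ha n)) x.2, hn⟩)))⟩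
  push Not at c
  obtain ⟨w, k, n⟩ := c
  have a : ∀ {v w}, Mx φ B v → Mx φ B w → B ⊓ St φ v ≠ B ⊓ St φ w → ∀ Q : Sylow q H,
      (Q : Subgroup H) ≤ St φ v → (Q : Subgroup H) ≤ St φ w := fun {v w} m k n Q hQ => by
    obtain ⟨P, hP, -⟩ := O.nq (v * w) fun e => n (by rw [eq_inv_of_mul_eq_one_left e, St_inv])
    have o : Odd (Nat.card P) := by
      obtain ⟨j, hj⟩ := P.2.exists_card_eq
      exact hj ▸ (O.prime.odd_of_ne_two hq).pow
    rw [(O.nq v m.ne).unique hQ (m.two hB k n o hP)]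
    exact k.two hB m n.symm o (mul_comm v w ▸ hP)
  obtain ⟨Q, hQ, -⟩ := O.nq v m.ne
  have b : closure {u | Mx φ B u} ≤ Fx φ Q := (closure_le _).2 fun u hu => by
    by_cases e : B ⊓ St φ v = B ⊓ St φ u
    · exact a k hu (e ▸ n.symm) Q (a m k n Q hQ)
    · exact a m hu e Q hQ
  refine absurd (I.eq_bot fun u => ?_) (O.ne_bot Q)
  rcases I.irr (closure {u | Mx φ B u}) (fun g u hu => (closure_le
    ((closure {u | Mx φ B u}).comap (φ g).toMonoidHom)).2
      (fun x hx => subset_closure (Mx.ap hx g)) hu) with e | e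
  · exact absurd (mem_bot.1 (e.le (subset_closure m))) m.ne
  · exact b (e.ge (mem_top u))

end Cfsg.Agent.Palfy
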