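import Mathlib
import Cfsg.Agent.Solv.FrobeniusAction
import Cfsg.Agent.Grp.Fitting

/-! Actions in which every point stabiliser contains a unique Sylow `q`-subgroup. -/

set_option autoImplicit false

namespace Cfsg.Agent.Palfy

open Subgroup

section

variable {H V : Type*} [Group H] [Group V]

/-- the stabiliser of `v` -/
def St (φ : H →* MulAut V) (v : V) : Subgroup H := (MulAction.stabilizer (MulAut V) v).comap φ

theorem mem_St {φ : H →* MulAut V} {v : V} {h : H} : h ∈ St φ v ↔ φ h v = v := Iff.rfl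

/-- the fixed points of `S` -/
def Fx (φ : H →* MulAut V) (S : Subgroup H) : Subgroup V where
  carrier := {v | S ≤ St φ v}
  one_mem' := fun s _ => map_one (φ s)
  mul_mem' := fun {a b} ha hb s hs => by
    rw [mem_St, map_mul, mem_St.1 (ha hs), mem_St.1 (hb hs)]
  inv_mem' := fun {a} ha s hs => by rw [mem_St, map_inv, mem_St.1 (ha hs)]

theorem mem_Fx {φ : H →* MulAut V} {S : Subgroup H} {v : V} : v ∈ Fx φ S ↔ S ≤ St φ v := Iff.rfl

theorem ap_mul (φ : H →* MulAut V) (a b : H) (v : V) : φ (a * b) v = φ a (φ b v) := by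
  rw [map_mul]; rfl

theorem ap_inv (φ : H →* MulAut V) (a : H) (v : V) : φ a⁻¹ (φ a v) = v := by
  rw [← ap_mul, inv_mul_cancel, map_one]; rfl

theorem ap_inv' (φ : H →* MulAut V) (a : H) (v : V) : φ a (φ a⁻¹ v) = v := by
  rw [← ap_mul, mul_inv_cancel, map_one]; rfl

theorem mem_St_ap {φ : H →* MulAut V} {v : V} {g h : H} :
    h ∈ St φ (φ g v) ↔ g⁻¹ * h * g ∈ St φ v := by
  rw [mem_St, mem_St, ap_mul, ap_mul, ← (φ g).injective.eq_iff (b := v), ap_inv']

theorem ap_ne {φ : H →* MulAut V} {v : V} (g : H) (hv : v ≠ 1) : φ g v ≠ 1 :=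
  (map_ne_one_iff _ (φ g).injective).2 hv

/-- invariant subgroups -/
def Inv (φ : H →* MulAut V) (W : Subgroup V) : Prop := ∀ h, ∀ w ∈ W, φ h w ∈ W

theorem inv_Fx (φ : H →* MulAut V) (D : Subgroup H) [hD : D.Normal] : Inv φ (Fx φ D) :=
  fun h _ hw d hd => mem_St_ap.2 (hw (hD.conj_mem' d hd h))

/-- the action on an invariant subgroup -/
def res (φ : H →* MulAut V) (W : Subgroup V) (h : Inv φ W) : H →* MulAut W where
  toFun g :=
    { toFun := fun w => ⟨φ g w, h g w w.2⟩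
      invFun := fun w => ⟨φ g⁻¹ w, h _ w w.2⟩
      left_inv := fun w => Subtype.ext (ap_inv φ g w)
      right_inv := fun w => Subtype.ext (ap_inv' φ g w)
      map_mul' := fun a b => Subtype.ext (map_mul (φ g) a.1 b.1) }
  map_one' := MulEquiv.ext fun w => Subtype.ext (by simp)
  map_mul' a b := MulEquiv.ext fun w => Subtype.ext (ap_mul φ a b w)

theorem res_coe (φ : H →* MulAut V) (W : Subgroup V) (h : Inv φ W) (g : H) (w : W) :
    (res φ W h g w : V) = φ g w := rfl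

theorem St_res (φ : H →* MulAut V) (W : Subgroup V) (h : Inv φ W) (w : W) :
    St (res φ W h) w = St φ w.1 := Subgroup.ext fun _ => Subtype.ext_iff

/-- the stabiliser of `v` contains a unique Sylow `q`-subgroup -/
def Nq (φ : H →* MulAut V) (q : ℕ) (v : V) : Prop := ∃! Q : Sylow q H, (Q : Subgroup H) ≤ St φ v

structure One (φ : H →* MulAut V) (q : ℕ) : Prop where
  prime : q.Prime
  nq : ∀ v, v ≠ 1 → Nq φ q v
  nn : ∀ Q : Sylow q H, ¬ (Q : Subgroup H).Normal

structure Irr0 (φ : H →* MulAut V) : Prop where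
  nt : Nontrivial V
  irr : ∀ W, Inv φ W → W = ⊥ ∨ W = ⊤

structure Irr (φ : H →* MulAut V) : Prop extends Irr0 φ where
  inj : Function.Injective φ

variable {φ : H →* MulAut V} {q : ℕ}

theorem Irr0.range (I : Irr0 φ) : Irr φ.range.subtype :=
  ⟨⟨I.nt, fun W h => I.irr W fun g => h ⟨_, g, rfl⟩⟩, subtype_injective _⟩

theorem One.res (O : One φ q) {W : Subgroup V} (h : Inv φ W) : One (res φ W h) q :=
  ⟨O.prime, fun w hw => by
    unfold Nq
    rw [St_res]
    exact O.nq w fun e => hw (Subtype.ext e), O.nn⟩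

theorem One.range [Finite H] [Nontrivial V] (O : One φ q) : One φ.range.subtype q := by
  have := Fact.mk O.prime
  have hs := φ.rangeRestrict_surjective
  have k : ∀ (Q : Sylow q H) v, ((Q.mapSurjective hs : Sylow q _) : Subgroup _) ≤
      St φ.range.subtype v ↔ (Q : Subgroup H) ≤ St φ v := fun Q v => by
    rw [Sylow.coe_mapSurjective, map_le_iff_le_comap]; rfl
  refine ⟨O.prime, fun v hv => ?_, fun Q hQ => ?_⟩
  · obtain ⟨Q, h1, h2⟩ := O.nq v hv
    refine ⟨_, (k Q v).2 h1, fun R hR => ?_⟩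
    obtain ⟨R, rfl⟩ := Sylow.mapSurjective_surjective hs q R
    rw [h2 R ((k R v).1 hR)]
  · obtain ⟨v, hv⟩ := exists_ne (1 : V)
    obtain ⟨P, h1, h2⟩ := O.nq v hv
    have : Finite φ.range := Finite.of_surjective _ hs
    have := Sylow.unique_of_normal Q hQ
    have e : ∀ A, A = P := fun A => h2 A ((k A v).1 (by
      rw [Subsingleton.elim (A.mapSurjective hs) (P.mapSurjective hs)]; exact (k P v).2 h1))
    have : Subsingleton (Sylow q H) := ⟨fun A B => by rw [e A, e B]⟩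
    exact O.nn P (Sylow.normal_of_subsingleton P)

theorem Irr.eq_bot (I : Irr φ) {D : Subgroup H} (h : ∀ v, D ≤ St φ v) : D = ⊥ :=
  eq_bot_iff.2 fun _ hd => mem_bot.2 (I.inj ((MulEquiv.ext fun v => mem_St.1 (h v hd)).trans (map_one φ).symm))

theorem Irr.fix (I : Irr φ) {D : Subgroup H} (hD : D.Normal) {v : V} (hv : v ≠ 1) (h : D ≤ St φ v) :
    D = ⊥ := by
  rcases I.irr _ (inv_Fx φ D) with e | e
  · exact absurd (mem_bot.1 (e.le h)) hv
  · exact I.eq_bot fun w => e.ge (mem_top w)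

theorem One.eq_bot (O : One φ q) (I : Irr φ) {D : Subgroup H} (hD : D.Normal) (h : IsPGroup q D) :
    D = ⊥ := by
  obtain ⟨v, hv⟩ := @exists_ne _ I.nt (1 : V)
  obtain ⟨Q, h1, -⟩ := O.nq v hv
  exact I.fix hD hv (((Grp.le_pCore hD h).trans (Grp.pCore_le_sylow Q)).trans h1)

theorem One.ne_bot (O : One φ q) (Q : Sylow q H) : (Q : Subgroup H) ≠ ⊥ := fun e =>
  O.nn Q (e ▸ inferInstance)

theorem One.norm (O : One φ q) {v : V} (hv : v ≠ 1) {Q : Sylow q H} (hQ : (Q : Subgroup H) ≤ St φ v) :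
    St φ v ≤ normalizer (Q : Set H) := fun g hg => by
  rw [← Sylow.smul_eq_iff_mem_normalizer]
  refine (O.nq v hv).unique ?_ hQ
  rintro _ ⟨x, hx, rfl⟩
  exact mul_mem (mul_mem hg (hQ hx)) (inv_mem hg)

theorem One.comm [Finite H] (O : One φ q) {v : V} (hv : v ≠ 1) {Q : Sylow q H}
    (hQ : (Q : Subgroup H) ≤ St φ v) {D : Subgroup H} (hD : D.Normal) (hc : (Nat.card D).Coprime q)
    {d x : H} (h1 : d ∈ D) (h2 : d ∈ St φ v) (hx : x ∈ (Q : Subgroup H)) : d * x = x * d := by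
  have := Fact.mk O.prime
  have : d * x * d⁻¹ * x⁻¹ ∈ (Q : Subgroup H) ⊓ D :=
    ⟨(Q : Subgroup H).mul_mem ((mem_normalizer_iff.1 (O.norm hv hQ h2) x).1 hx) (inv_mem hx), by
      have := mul_mem h1 (hD.conj_mem _ (inv_mem h1) x)
      simpa [mul_assoc] using this⟩
  rw [Grp.inf_eq_bot_of_isPGroup_of_coprime Q.2 hc, mem_bot] at this
  exact mul_inv_eq_iff_eq_mul.1 (mul_inv_eq_one.1 this)

theorem isCyclic_of_fix [Finite V] [Nontrivial V] {A : Subgroup (MulAut V)}
    (hA : ∀ a ∈ A, ∀ b ∈ A, a * b = b * a) (h : ∀ a ∈ A, ∀ v, a v = v → a = 1 ∨ v = 1) :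
    IsCyclic A := by
  let S := V ⋊[MonoidHom.id (MulAut V)] MulAut V
  have : Finite S := Finite.of_equiv _ SemidirectProduct.equivProd.symm
  let j : MulAut V →* S := SemidirectProduct.inr
  let i : V →* S := SemidirectProduct.inl
  have hj : Function.Injective j := SemidirectProduct.inr_injective
  have : IsMulCommutative (A.map j) := by
    refine ⟨⟨?_⟩⟩
    rintro ⟨_, a, ha, rfl⟩ ⟨_, b, hb, rfl⟩
    apply Subtype.ext
    change j a * j b = j b * j a
    rw [← map_mul, ← map_mul, hA a ha b hb]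
  have h1 : IsCyclic (A.map j) := by
    refine Solv.Frob.isCyclic_of_fpf_of_comm (K := i.range) ?_ ?_ ?_
    · obtain ⟨v, hv⟩ := exists_ne (1 : V)
      intro e
      exact hv (SemidirectProduct.inl_injective ((mem_bot.1 (e ▸ ⟨v, rfl⟩ : i v ∈ ⊥)).trans
        (map_one i).symm))
    · rw [SemidirectProduct.range_inl_eq_ker_rightHom, normalizer_eq_top]
      exact le_top
    · rintro _ ⟨a, ha, rfl⟩ h1
      rw [eq_bot_iff]
      rintro _ ⟨⟨v, rfl⟩, hv⟩
      have h2 : i (a v) = i v := by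
        refine (SemidirectProduct.inl_aut (φ := MonoidHom.id (MulAut V)) a v).trans ?_
        rw [map_inv, mul_inv_eq_iff_eq_mul]
        exact (mem_centralizer_singleton_iff.1 hv).symm
      rcases h a ha v (SemidirectProduct.inl_injective h2) with rfl | rfl
      · exact absurd (map_one j) h1
      · exact mem_bot.2 (map_one i)
  exact isCyclic_of_surjective _ (A.equivMapOfInjective j hj).symm.surjective

/-- `A ⊓ St v` is maximal among the stabilisers in `A` of nontrivial elements -/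
structure Mx (φ : H →* MulAut V) (A : Subgroup H) (v : V) : Prop where
  ne : v ≠ 1
  mx : ∀ w, w ≠ 1 → A ⊓ St φ v ≤ St φ w → A ⊓ St φ w ≤ St φ v

theorem exists_mx [Finite H] [Nontrivial V] (φ : H →* MulAut V) (A : Subgroup H) : ∃ v, Mx φ A v := by
  obtain ⟨v0, h0⟩ := exists_ne (1 : V)
  obtain ⟨_, ⟨v, hv, rfl⟩, hm⟩ := Set.Finite.exists_maximal (Set.toFinite
    {K | ∃ v, v ≠ 1 ∧ K = A ⊓ St φ v}) ⟨_, v0, h0, rfl⟩
  exact ⟨v, hv, fun w hw h => (hm ⟨w, hw, rfl⟩ (le_inf inf_le_left h)).trans inf_le_right⟩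

theorem Mx.cyc [Finite V] {A : Subgroup H} {v : V} (m : Mx φ A v)
    (hA : ∀ a ∈ A, ∀ b ∈ A, a * b = b * a) :
    ∃ a ∈ A, ∀ x ∈ A, ∃ n : ℤ, (a ^ n)⁻¹ * x ∈ St φ v := by
  have hi : Inv (φ.comp A.subtype) (Fx φ (A ⊓ St φ v)) := fun a w hw k hk => mem_St_ap.2 (by
    rw [coe_subtype, mul_assoc, hA k hk.1 a a.2, inv_mul_cancel_left]; exact hw hk)
  let v' : Fx φ (A ⊓ St φ v) := ⟨v, mem_Fx.2 inf_le_right⟩
  have : Nontrivial (Fx φ (A ⊓ St φ v)) := ⟨v', 1, fun e => m.ne (congrArg Subtype.val e)⟩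
  have c : IsCyclic (res _ _ hi).range := isCyclic_of_fix (by
    rintro _ ⟨a, rfl⟩ _ ⟨b, rfl⟩
    rw [← map_mul, ← map_mul, show a * b = b * a from Subtype.ext (hA a a.2 b b.2)]) (by
    rintro _ ⟨a, rfl⟩ w e
    refine or_iff_not_imp_right.2 fun n => MulEquiv.ext fun u => Subtype.ext (u.2 ⟨a.2, ?_⟩)
    exact m.mx w (fun e => n (Subtype.ext e)) w.2 ⟨a.2, congrArg Subtype.val e⟩)
  obtain ⟨⟨_, a, rfl⟩, ha⟩ := c.exists_generator
  refine ⟨a, a.2, fun x hx => ?_⟩
  obtain ⟨n, hn⟩ := ha ⟨_, ⟨x, hx⟩, rfl⟩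
  have e : res _ _ hi ((a ^ n)⁻¹ * ⟨x, hx⟩) = 1 := by
    rw [map_mul, map_inv, map_zpow, inv_mul_eq_one]
    exact congrArg Subtype.val hn
  exact ⟨n, congrArg Subtype.val (DFunLike.congr_fun e v')⟩

end

section

variable {G : Type*} [Group G]

/-- the action on the linear characters of a normal subgroup -/
def dual (N : Subgroup G) [N.Normal] : G →* MulAut (N →* ℂˣ) where
  toFun g :=
    { toFun := fun μ => μ.comp (MulAut.conjNormal g⁻¹ : MulAut N).toMonoidHom
      invFun := fun μ => μ.comp (MulAut.conjNormal g : MulAut N).toMonoidHom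
      left_inv := fun μ => MonoidHom.ext fun n => by simp
      right_inv := fun μ => MonoidHom.ext fun n => by simp
      map_mul' := fun _ _ => rfl }
  map_one' := MulEquiv.ext fun μ => MonoidHom.ext fun n => by simp
  map_mul' a b := MulEquiv.ext fun μ => MonoidHom.ext fun n => by simp

theorem dual_apply (N : Subgroup G) [hN : N.Normal] (g : G) (μ : N →* ℂˣ) (n : N) :
    dual N g μ n = μ ⟨g⁻¹ * n * g, hN.conj_mem' n n.2 g⟩ := by
  change μ _ = _
  congr 1
  exact Subtype.ext (by simp)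

theorem mem_St_dual {N : Subgroup G} [hN : N.Normal] {g : G} {μ : N →* ℂˣ} :
    g ∈ St (dual N) μ ↔ ∀ n : N, μ ⟨g * n * g⁻¹, hN.conj_mem n n.2 g⟩ = μ n := by
  rw [← inv_mem_iff, mem_St, DFunLike.ext_iff]
  simp only [dual_apply, inv_inv]

theorem prime_dvd_index_iff [Finite G] {s : ℕ} [Fact s.Prime] {T : Subgroup G} :
    s ∣ T.index ↔ ∀ S : Sylow s G, ¬ (S : Subgroup G) ≤ T := by
  refine ⟨fun h S e => S.not_dvd_index (h.trans (index_dvd_of_le e)), fun h => ?_⟩
  by_contra n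
  obtain ⟨P⟩ : Nonempty (Sylow s T) := inferInstance
  refine h ((P.2.map T.subtype).toSylow ?_) (map_subtype_le _)
  rw [index_map_subtype]
  exact fun e => ((Fact.out : s.Prime).dvd_mul.1 e).elim P.not_dvd_index n

/-- coprime action, elementwise -/
theorem comm_of_cop {a x : G} {m n : ℕ} (ha : a ^ n = 1) (hc : (a * x * a⁻¹ * x⁻¹) ^ m = 1)
    (cop : m.Coprime n) (h : a * (a * x * a⁻¹ * x⁻¹) = a * x * a⁻¹ * x⁻¹ * a) : a * x = x * a := by
  have k : ∀ j : ℕ, a ^ j * x * (a ^ j)⁻¹ = (a * x * a⁻¹ * x⁻¹) ^ j * x := fun j => by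
    induction j with
    | zero => simp
    | succ j ih =>
      have : Commute a ((a * x * a⁻¹ * x⁻¹) ^ j) := Commute.pow_right h j
      rw [pow_succ', show a * a ^ j * x * (a * a ^ j)⁻¹ = a * (a ^ j * x * (a ^ j)⁻¹) * a⁻¹ by group,
        ih, ← mul_assoc, this.eq, pow_succ]
      group
  have e := k n
  rw [ha, one_mul, inv_one, mul_one, eq_comm, mul_eq_right] at e
  have := pow_gcd_eq_one.2 ⟨hc, e⟩
  rw [cop.gcd_eq_one, pow_one] at this
  exact mul_inv_eq_iff_eq_mul.1 (mul_inv_eq_one.1 this)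

theorem normal_of_le_cyclic {K Z : Subgroup G} [hZ : Z.Normal] (c : IsCyclic Z) (h : K ≤ Z) :
    K.Normal := ⟨fun k hk g => by
  obtain ⟨m, hm⟩ := MonoidHom.map_cyclic (MulAut.conjNormal g : MulAut Z).toMonoidHom
  have := congrArg Subtype.val (hm ⟨k, h hk⟩)
  simp only [MulEquiv.coe_toMonoidHom, MulAut.conjNormal_apply, SubgroupClass.coe_zpow] at this
  exact this ▸ zpow_mem hk m⟩

/-- a Sylow subgroup which is normal in a normal subgroup is normal -/
theorem sylow_normal [Finite G] {s : ℕ} [Fact s.Prime] (Q : Sylow s G) {S : Subgroup G} (hS : S.Normal)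
    (h1 : (Q : Subgroup G) ≤ S) (h2 : S ≤ normalizer (Q : Set G)) : (Q : Subgroup G).Normal := by
  rw [← normalizer_eq_top_iff, eq_top_iff, ← Sylow.normalizer_sup_eq_top' Q h1]
  exact sup_le le_rfl h2

end

end Cfsg.Agent.Palfy
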