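import Cfsg.Agent.Palfy.Defs
import Cfsg.Agent.Char.LinearTwist
import Cfsg.Agent.S4493

/-! Degrees of characters over an extendible character of a normal subgroup. -/

set_option autoImplicit false

namespace Cfsg.Agent.Palfy

open Subgroup Cfsg.Agent.Char

/-- `n` divides a character degree -/
def Dv (n : ℕ) (G : Type*) [Group G] : Prop := ∃ χ : IrrCharacter G, n ∣ charDegree (χ : G → ℂ)

variable {G H : Type*} [Group G] [Finite G] [Group H] {m n p q : ℕ}

omit [Finite G] in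
theorem Dv.of_dvd (h : Dv n G) (e : m ∣ n) : Dv m G := h.imp fun _ => e.trans

theorem Dv.of_surj (h : Dv n H) (f : G →* H) (hf : Function.Surjective f) : Dv n G := by
  obtain ⟨ψ, h⟩ := h
  obtain ⟨χ, e⟩ := exists_irr_charDegree_eq_of_surjective f hf ψ
  exact ⟨χ, e ▸ h⟩

/-- a linear character -/
def lin (μ : H →* ℂˣ) : IrrCharacter H := ⟨_, isIrrCharacter_hom μ⟩

theorem deg_lin (μ : H →* ℂˣ) : charDegree (lin μ : H → ℂ) = 1 :=
  charDegree_eq_of_one_eq (by simp [lin])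

omit [Finite G] in
theorem inertia_lin (N : Subgroup G) [N.Normal] (μ : N →* ℂˣ) :
    inertia N (lin μ : N → ℂ) = St (dual N) μ := Subgroup.ext fun g => by
  rw [mem_inertia', mem_St_dual]
  exact forall_congr' fun n => Units.val_inj

theorem dv_index (N : Subgroup G) [N.Normal] (μ : N →* ℂˣ) : Dv (St (dual N) μ).index G := by
  have := exists_irr_mul_dvd_charDegree N (lin μ)
  rwa [deg_lin, mul_one, inertia_lin] at this

theorem dv_two (N : Subgroup G) [N.Normal] (μ : N →* ℂˣ) (hp : p.Prime) (hq : q.Prime) (ne : p ≠ q)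
    (h1 : ∀ P : Sylow p G, ¬ (P : Subgroup G) ≤ St (dual N) μ)
    (h2 : ∀ Q : Sylow q G, ¬ (Q : Subgroup G) ≤ St (dual N) μ) : Dv (p * q) G :=
  have := Fact.mk hp
  have := Fact.mk hq
  (dv_index N μ).of_dvd (((Nat.coprime_primes hp hq).2 ne).mul_dvd_of_dvd_of_dvd
    (prime_dvd_index_iff.2 h1) (prime_dvd_index_iff.2 h2))

omit [Finite G] in
theorem St_dual_le {M N : Subgroup G} [M.Normal] [N.Normal] (h : M ≤ N) (μ : N →* ℂˣ) :
    St (dual N) μ ≤ St (dual M) (μ.comp (inclusion h)) := fun _ hg =>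
  mem_St_dual.2 fun n => mem_St_dual.1 hg (inclusion h n)

/-- `θ` extends to its inertia group -/
def Ext (M : Subgroup G) [M.Normal] (θ : IrrCharacter M) : Prop :=
  ∃ ψ : inertia M (θ : M → ℂ) → ℂ, IsCharacter _ ψ ∧ ∀ (n : M) (h : n.1 ∈ inertia M (θ : M → ℂ)),
    ψ ⟨n, h⟩ = θ.1 n

omit [Finite G] in
theorem le_inertia' (M : Subgroup G) [M.Normal] (θ : IrrCharacter M) : M ≤ inertia M (θ : M → ℂ) :=
  fun g hg => (mem_inertia' _).2 fun n => θ.2.isClassFunction n ⟨g, hg⟩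

theorem Ext.dv {M : Subgroup G} [M.Normal] {θ : IrrCharacter M} (h : Ext M θ) (f : G →* H)
    (hf : M ≤ f.ker) (β : IrrCharacter ((inertia M (θ : M → ℂ)).map f)) :
    Dv ((inertia M (θ : M → ℂ)).index * charDegree (θ : M → ℂ) * charDegree β.1) G := by
  classical
  have := Fintype.ofFinite G
  obtain ⟨ψ, h1, h2⟩ := h
  have le := le_inertia' M θ
  have i1 : IsIrrCharacter (M.subgroupOf (inertia M (θ : M → ℂ))) fun n => ψ n := by
    convert isIrr_subgroupOf (T := inertia M (θ : M → ℂ)) le θ.2 using 2 with n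
    exact h2 ⟨_, n.2⟩ n.1.2
  have b1 : ∀ n : inertia M (θ : M → ℂ), n.1 ∈ M → β.1 (f.subgroupMap _ n) = β.1 1 := fun n hn =>
    congrArg _ (Subtype.ext (hf hn))
  have i2 := gallagher_isIrr h1 i1 (β.2.comp_surjective _ (f.subgroupMap_surjective _))
    fun n => by rw [b1 n n.2, map_one]
  have b0 : β.1 1 ≠ 0 := by
    rw [← coe_charDegree_irr]; exact Nat.cast_ne_zero.2 (charDegree_pos_of_isIrr β.2).ne'
  have i3 := isIrr_indFun_of_inertia_le le i2 θ.2 le_rfl (by
    rw [show (fun n : M => _) = β.1 1 • θ.1 from funext fun n => by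
      rw [Pi.mul_apply, b1 _ n.2, h2, Pi.smul_apply, smul_eq_mul], classInner_smul_left,
      θ.2.inner_eq_ite θ.2, if_pos rfl, mul_one]
    exact b0)
  refine ⟨⟨_, i3⟩, dvd_of_eq (charDegree_eq_of_one_eq ?_).symm⟩
  change indFun _ _ 1 = _
  rw [indFun_one, Pi.mul_apply, map_one, show ψ 1 = _ from h2 1 (one_mem _), Nat.cast_mul,
    Nat.cast_mul, coe_charDegree_irr, coe_charDegree_irr]
  ring

theorem Ext.sylow [Group.IsSolvable G] {M : Subgroup G} [M.Normal] {θ : IrrCharacter M} (h : Ext M θ)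
    (f : G →* H) (hs : Function.Surjective f) (hf : f.ker = M) (hp : p.Prime) (hq : q.Prime)
    (ne : p ≠ q) (hd : p ∣ (inertia M (θ : M → ℂ)).index * charDegree (θ : M → ℂ))
    (no : ¬ Dv (p * q) G) : ∃ Q : Sylow q H, (Q : Subgroup H) ≤ (inertia M (θ : M → ℂ)).map f ∧
      (∀ a ∈ (Q : Subgroup H), ∀ b ∈ (Q : Subgroup H), a * b = b * a) ∧
      ∀ R : Sylow q H, (R : Subgroup H) ≤ (inertia M (θ : M → ℂ)).map f → R = Q := by
  have := Fact.mk hq
  have : Finite H := Finite.of_surjective f hs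
  have := Group.isSolvable_of_surjective hs
  have cop := (Nat.coprime_primes hp hq).2 ne
  have k : ∀ β : IrrCharacter ((inertia M (θ : M → ℂ)).map f), ¬ q ∣ (inertia M (θ : M → ℂ)).index *
      charDegree (θ : M → ℂ) * charDegree β.1 := fun β c =>
    no ((h.dv f hf.ge β).of_dvd (cop.mul_dvd_of_dvd_of_dvd (hd.mul_right _) c))
  obtain ⟨P, p1, p2, p3, p4⟩ := (S4493.result inferInstance q hq).2 fun β c => k β (c.mul_left _)
  have i : ¬ q ∣ (P.map ((inertia M (θ : M → ℂ)).map f).subtype).index := by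
    rw [index_map_subtype, index_map_eq _ hs (hf ▸ le_inertia' M θ)]
    exact fun c => (hq.dvd_mul.1 c).elim p4 fun c => k (irrOne _) ((c.mul_right _).mul_right _)
  refine ⟨(p3.map _).toSylow i, map_subtype_le _, ?_, fun R hR => Sylow.ext (R.3 (p3.map _) ?_).symm⟩
  · rintro _ ⟨a, ha, rfl⟩ _ ⟨b, hb, rfl⟩
    exact congrArg Subtype.val (p2 a ha b hb)
  · obtain ⟨S, hS⟩ := (R.2.comap_subtype (K := (inertia M (θ : M → ℂ)).map f)).exists_le_sylow
    have := Sylow.unique_of_normal (p3.toSylow p4) p1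
    rw [Subsingleton.elim S (p3.toSylow p4)] at hS
    exact fun x hx => ⟨⟨x, hR hx⟩, hS hx, rfl⟩

theorem ext_of_coprime (M : Subgroup G) [hM : M.Normal] (h : (Nat.card M).Coprime M.index)
    (θ : IrrCharacter M) : Ext M θ := by
  classical
  have := Fintype.ofFinite G
  have le := le_inertia' M θ
  have i := isIrr_subgroupOf (T := inertia M (θ : M → ℂ)) le θ.2
  have c : Nat.card (M.subgroupOf (inertia M (θ : M → ℂ))) = Nat.card M :=
    Nat.card_congr (subgroupOfEquivOfLe le).toEquiv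
  obtain ⟨χ, ⟨h1, h2, -⟩, -⟩ := S0867.result _ _ i (fun g n => (mem_inertia' _).1 g.2 ⟨_, n.2⟩) _
    (coe_charDegree_irr ⟨_, i⟩).symm (Nat.Coprime.coprime_dvd_left (relIndex_dvd_index_of_le le)
      (Nat.Coprime.mul_right (h.symm.coprime_dvd_right (c ▸ detOrder_dvd_card _))
        (h.symm.coprime_dvd_right (c ▸ charDegree_irr_dvd_card ⟨_, i⟩))))
  exact ⟨χ, h1.isCharacter, fun n hn => h2 ⟨⟨n, hn⟩, n.2⟩⟩

omit [Finite G] in
theorem ext_of_compl (M : Subgroup G) [hM : M.Normal] {K : Subgroup G} (h : M.IsComplement' K)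
    (μ : M →* ℂˣ) : Ext M (lin μ) := by
  let π : G →* G := K.subtype.comp (h.symm.QuotientMulEquiv.toMonoidHom.comp (QuotientGroup.mk' M))
  have h1 : ∀ g, g * (π g)⁻¹ ∈ M := fun g => by
    rw [← div_eq_mul_inv, ← QuotientGroup.eq_iff_div_mem]
    exact (h.symm.QuotientMulEquiv.symm_apply_apply g).symm
  have h2 : ∀ g ∈ M, π g = 1 := fun g hg => by
    change ((h.symm.QuotientMulEquiv (g : G ⧸ M) : K) : G) = 1
    rw [(QuotientGroup.eq_one_iff g).2 hg, map_one, coe_one]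
  let ν : inertia M (lin μ : M → ℂ) →* ℂˣ := MonoidHom.mk' (fun g => μ ⟨_, h1 g⟩) fun a b => by
    have ha : π a ∈ St (dual M) μ := by
      have := mul_mem (inv_mem (le_inertia' M (lin μ) (h1 a))) a.2
      simpa using (inertia_lin M μ).le this
    rw [← mem_St_dual.1 ha ⟨_, h1 b⟩, ← map_mul]
    congr 1
    exact Subtype.ext (by simp [mul_assoc])
  exact ⟨_, isCharacter_hom ν, fun n hn => congrArg Units.val (congrArg μ (Subtype.ext (by
    simp [h2 n n.2])))⟩

theorem exists_cent [Fact p.Prime] {E P : Subgroup G} (hE : E.Normal) (pE : IsPGroup p E)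
    (pP : IsPGroup p P) (ne : E ≠ ⊥) : ∃ z ∈ E, z ≠ 1 ∧ z ∈ centralizer (P : Set G) := by
  let _ : MulAction P E := MulAction.compHom E ((MulAut.conjNormal : G →* MulAut E).comp P.subtype)
  obtain ⟨k, hk, e⟩ := pE.nontrivial_iff_card.1 ((nontrivial_iff_ne_bot E).2 ne)
  obtain ⟨u, hu, n⟩ := pP.exists_fixed_point_of_prime_dvd_card_of_fixed_point E
    (e ▸ dvd_pow_self _ hk.ne') (a := 1) fun g => map_one (MulAut.conjNormal g.1 : MulAut E)
  exact ⟨u, u.2, fun c => n (Subtype.ext c).symm, fun g hg =>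
    mul_inv_eq_iff_eq_mul.1 (congrArg Subtype.val (hu ⟨g, hg⟩))⟩

end Cfsg.Agent.Palfy
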