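import Cfsg.Agent.Palfy.Defs
import Cfsg.Agent.Grp.CommPow
import Cfsg.Agent.TT.XS

/-! A Sylow subgroup centralising `Z(F(H))` acts on an extraspecial normal `2`-subgroup. -/

set_option autoImplicit false
set_option linter.unusedSectionVars false

namespace Cfsg.Agent.Palfy

open Subgroup
open scoped commutatorElement

variable {H : Type*} [Group H] [Finite H] {q s : ℕ} {E : Subgroup H}

/-- `E` is minimal among the normal subgroups not centralised by the Sylow `q`-subgroups -/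
structure MinE (q s : ℕ) (E : Subgroup H) : Prop where
  pq : q.Prime
  ps : s.Prime
  ne : s ≠ q
  nE : E.Normal
  pE : IsPGroup s E
  nc : ∀ Q : Sylow q H, ¬ (Q : Subgroup H) ≤ centralizer E
  mn : ∀ D : Subgroup H, D.Normal → D < E → ∀ Q : Sylow q H, (Q : Subgroup H) ≤ centralizer D

theorem sylow_le_normal [Fact q.Prime] {C : Subgroup H} (hC : C.Normal) {Q : Sylow q H}
    (h : (Q : Subgroup H) ≤ C) (P : Sylow q H) : (P : Subgroup H) ≤ C := by
  obtain ⟨g, rfl⟩ := MulAction.exists_smul_eq H Q P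
  rintro _ ⟨x, hx, rfl⟩
  exact hC.conj_mem x (h hx) g

theorem exists_minE (hq : q.Prime) (hs : s.Prime) (ne : s ≠ q) {Q : Sylow q H}
    (h : ¬ (Q : Subgroup H) ≤ centralizer (pCore s H)) : ∃ E : Subgroup H, MinE q s E := by
  have := Fact.mk hq
  obtain ⟨E, ⟨h1, h2, h3⟩, hm⟩ := Set.Finite.exists_minimal (Set.toFinite {E : Subgroup H | E.Normal ∧
    IsPGroup s E ∧ ¬ (Q : Subgroup H) ≤ centralizer E}) ⟨_, inferInstance, Grp.pCore_isPGroup s H, h⟩
  refine ⟨E, hq, hs, ne, h1, h2, fun P e => h3 (sylow_le_normal inferInstance e Q), fun D hD l P =>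
    sylow_le_normal inferInstance (not_not.1 fun c => l.not_ge (hm ⟨hD, h2.to_le l.le, c⟩ l.le)) P⟩

namespace MinE

variable (M : MinE q s E) {x y a : H}
include M

omit [Finite H] in
theorem cm (hx : x ∈ E) (a : H) : ⁅a, x⁆ ∈ E := mul_mem (M.nE.conj_mem x hx a) (inv_mem hx)

theorem cop (Q : Sylow q H) (ha : a ∈ (Q : Subgroup H)) (hx : x ∈ E) (h : a * ⁅a, x⁆ = ⁅a, x⁆ * a) :
    a * x = x * a := by
  obtain ⟨k, hk⟩ := Q.2 ⟨a, ha⟩
  obtain ⟨l, hl⟩ := M.pE ⟨_, M.cm hx a⟩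
  exact comm_of_cop (congrArg Subtype.val hk) (congrArg Subtype.val hl)
    (Nat.Coprime.pow _ _ ((Nat.coprime_primes M.ps M.pq).2 M.ne)) h

theorem eq_of (Q : Sylow q H) {D : Subgroup H} (hD : D.Normal) (le : D ≤ E)
    (h : ∀ a ∈ (Q : Subgroup H), ∀ x ∈ E, ⁅a, x⁆ ∈ D) : D = E := by
  by_contra n
  exact M.nc Q fun a ha x hx =>
    (M.cop Q ha hx (M.mn D hD (lt_of_le_of_ne le n) Q ha _ (h a ha x hx)).symm).symm

theorem le_cent {D : Subgroup H} (hD : D.Normal) (l : D < E) : D ≤ centralizer E := by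
  have := M.nE
  let L : Subgroup H := ⨆ Q : Sylow q H, (Q : Subgroup H)
  have nL : L.Normal := ⟨fun x hx g => (iSup_le fun Q y hy => le_iSup (fun Q : Sylow q H =>
    (Q : Subgroup H)) (g • Q) ⟨y, hy, rfl⟩ : L ≤ L.comap (MulAut.conj g).toMonoidHom) hx⟩
  obtain ⟨Q⟩ : Nonempty (Sylow q H) := inferInstance
  have e : ⁅L, E⁆ = E := M.eq_of Q inferInstance (commutator_le_right _ _) fun a ha x hx =>
    commutator_mem_commutator (le_iSup (fun Q : Sylow q H => (Q : Subgroup H)) Q ha) hx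
  have c : ⁅D, L⁆ = ⊥ := by
    rw [commutator_comm, commutator_eq_bot_iff_le_centralizer]
    exact iSup_le (M.mn D hD l)
  rw [← commutator_eq_bot_iff_le_centralizer, commutator_comm, ← e]
  refine commutator_commutator_eq_bot_of_rotate (eq_bot_iff.2 ?_) (by rw [c]; simp)
  exact c ▸ commutator_mono (commutator_le_right _ _) le_rfl

omit [Finite H] in
theorem ne_bot : E ≠ ⊥ := by
  obtain ⟨Q⟩ : Nonempty (Sylow q H) := inferInstance
  rintro rfl
  exact M.nc Q fun a _ x hx => by rw [mem_bot.1 hx]; simp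

theorem not_cyc (hz : ∃ z ∈ E, z ≠ 1 ∧ ∀ Q : Sylow q H, ∀ a ∈ (Q : Subgroup H), a * z = z * a) :
    ¬ IsCyclic E := fun c => by
  have := M.nE
  have := Fact.mk M.ps
  obtain ⟨Q⟩ : Nonempty (Sylow q H) := inferInstance
  obtain ⟨z, z1, z2, z3⟩ := hz
  obtain ⟨e, he⟩ := c.exists_generator
  obtain ⟨n, hn⟩ := (IsPGroup.iff_orderOf.1 M.pE) e
  have sd : ∀ j k : ℤ, e ^ j ≠ 1 → e ^ (j * k) = 1 → (s : ℤ) ∣ k := fun j k h1 h2 => by
    rw [Ne, ← orderOf_dvd_iff_zpow_eq_one, hn] at h1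
    rw [← orderOf_dvd_iff_zpow_eq_one, hn, Nat.cast_pow] at h2
    by_contra c
    rw [Nat.cast_pow] at h1
    exact h1 ((((Nat.prime_iff_prime_int.1 M.ps).coprime_iff_not_dvd.2
      c).pow_left).dvd_of_dvd_mul_right h2)
  have le : zpowers (e.1 ^ s) ≤ E := zpowers_le.2 (pow_mem e.2 s)
  have := M.eq_of Q (normal_of_le_cyclic c le) le fun a ha x hx => by
    obtain ⟨m, hm⟩ := MonoidHom.map_cyclic (MulAut.conjNormal a : MulAut E).toMonoidHom
    have k : ∀ y : E, a * y * a⁻¹ = (y ^ m : E) := fun y => by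
      simpa using congrArg Subtype.val (hm y)
    obtain ⟨j, hj⟩ := he ⟨z, z1⟩
    obtain ⟨t, ht⟩ := sd j (m - 1) (fun c => z2 (congrArg Subtype.val (hj.symm.trans c))) (by
      have := k ⟨z, z1⟩
      rw [z3 Q a ha, mul_inv_cancel_right] at this
      rw [zpow_mul, show e ^ j = _ from hj, zpow_sub_one, mul_inv_eq_one]
      exact Subtype.ext this.symm)
    obtain ⟨i, hi⟩ := he ⟨x, hx⟩
    refine ⟨t * i, ?_⟩
    rw [commutatorElement_def, k ⟨x, hx⟩]
    obtain rfl : e.1 ^ i = x := congrArg Subtype.val hi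
    simp only [SubgroupClass.coe_zpow]
    rw [← zpow_natCast, ← zpow_mul, ← zpow_mul, ← zpow_sub, ← mul_assoc, ← ht]
    congr 1
    ring
  obtain ⟨i, hi⟩ := this.ge e.2
  have e1 : e ^ (1 : ℤ) ≠ 1 := fun c => M.ne_bot (eq_bot_iff.2 fun x hx => by
    obtain ⟨i, hi⟩ := he ⟨x, hx⟩
    rw [zpow_one] at c
    simpa [c] using (congrArg Subtype.val hi).symm)
  have := sd 1 (s * i - 1) e1 (Subtype.ext (by
    simp only [one_mul, SubgroupClass.coe_zpow, coe_one]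
    rw [zpow_sub_one, zpow_mul, zpow_natCast, show (e.1 ^ s) ^ i = _ from hi, mul_inv_cancel]))
  exact (Nat.prime_iff_prime_int.1 M.ps).not_dvd_one ((dvd_sub_right (dvd_mul_right _ _)).1 this)

theorem cc (hx : x ∈ E) (hy : y ∈ E) : ⁅x, y⁆ ∈ centralizer (E : Set H) := by
  have := M.nE
  have := Fact.mk M.ps
  have := M.pE.isNilpotent
  exact M.le_cent inferInstance (Grp.commutator_lt_of_isSolvable M.ne_bot)
    (commutator_mem_commutator hx hy)

theorem mul_pow (hx : x ∈ E) (hy : y ∈ E) (n : ℕ) :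
    (x * y) ^ n = x ^ n * y ^ n * ⁅y, x⁆ ^ (n.choose 2) :=
  Grp.CommPow.mul_pow_of_commute (M.cc hy hx x hx).symm (M.cc hy hx y hy).symm n

variable (na : ¬ E ≤ centralizer E)
include na

omit [Finite H] M in
theorem Z_lt : E ⊓ centralizer E < E := lt_of_le_of_ne inf_le_left fun e => na (e.ge.trans inf_le_right)

theorem cZ (Q : Sylow q H) (ha : a ∈ (Q : Subgroup H)) (hx : x ∈ E)
    (h : x ∈ centralizer (E : Set H)) : x * a = a * x :=
  have := M.nE
  M.mn _ inferInstance (Z_lt na) Q ha x ⟨hx, h⟩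

theorem pow_cent (hx : x ∈ E) : x ^ s ∈ centralizer (E : Set H) := by
  have := M.nE
  let D : Subgroup H :=
    { carrier := {x | x ∈ E ∧ x ^ s ∈ centralizer (E : Set H)}
      one_mem' := ⟨one_mem _, by simp⟩
      mul_mem' := fun ha hb => ⟨mul_mem ha.1 hb.1, by
        rw [M.mul_pow ha.1 hb.1]
        exact mul_mem (mul_mem ha.2 hb.2) (pow_mem (M.cc hb.1 ha.1) _)⟩
      inv_mem' := fun ha => ⟨inv_mem ha.1, by rw [inv_pow]; exact inv_mem ha.2⟩ }
  have nD : D.Normal := ⟨fun y hy g => ⟨M.nE.conj_mem y hy.1 g, by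
    rw [conj_pow]; exact Normal.conj_mem inferInstance _ hy.2 g⟩⟩
  by_contra n
  have l := M.le_cent nD (lt_of_le_of_ne (fun _ h => h.1) fun e => n (e.ge hx).2)
  have k : ∀ j : ℕ, x ^ s ^ j ∉ centralizer (E : Set H) := fun j => by
    induction j with
    | zero => exact fun c => n (pow_mem (by simpa using c) s)
    | succ j ih => exact fun c => ih (l ⟨pow_mem hx _, by rwa [← pow_mul, ← pow_succ]⟩)
  obtain ⟨j, hj⟩ := M.pE ⟨x, hx⟩
  exact k j ((show x ^ s ^ j = 1 from congrArg Subtype.val hj) ▸ one_mem _)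

theorem cpow (hx : x ∈ E) (hy : y ∈ E) : ⁅x, y⁆ ^ s = 1 := by
  rw [← Grp.CommPow.commutator_pow_left (M.cc hx hy x hx).symm]
  exact commutatorElement_eq_one_iff_mul_comm.2 (M.pow_cent na hx y hy).symm

theorem expo {n : ℕ} (h1 : s ∣ n) (h2 : s ∣ n.choose 2) (hx : x ∈ E) : x ^ n = 1 := by
  have mp : ∀ {x y}, x ∈ E → y ∈ E → (x * y) ^ n = x ^ n * y ^ n := fun hx hy => by
    obtain ⟨k, hk⟩ := h2
    rw [M.mul_pow hx hy, hk, pow_mul, M.cpow na hy hx, one_pow, mul_one]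
  let D : Subgroup H :=
    { carrier := {x | x ∈ E ∧ x ^ n = 1}
      one_mem' := ⟨one_mem _, by simp⟩
      mul_mem' := fun ha hb => ⟨mul_mem ha.1 hb.1, by rw [mp ha.1 hb.1, ha.2, hb.2, one_mul]⟩
      inv_mem' := fun ha => ⟨inv_mem ha.1, by rw [inv_pow, ha.2, inv_one]⟩ }
  obtain ⟨Q⟩ : Nonempty (Sylow q H) := inferInstance
  refine ((M.eq_of Q (D := D) ⟨fun y hy g => ⟨M.nE.conj_mem y hy.1 g, by
    rw [conj_pow, hy.2, mul_one, mul_inv_cancel]⟩⟩ (fun _ h => h.1) fun a ha y hy =>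
      ⟨M.cm hy a, ?_⟩).ge hx).2
  obtain ⟨k, rfl⟩ := h1
  rw [commutatorElement_def, mp (M.nE.conj_mem y hy a) (inv_mem hy), conj_pow, inv_pow,
    ← M.cZ na Q ha (pow_mem hy _) (pow_mul y s k ▸ pow_mem (M.pow_cent na hy) k),
    mul_inv_cancel_right, mul_inv_cancel]

/-- `[a, x]` commutes with the elements of `C_E(a)` -/
theorem comm_cm (Q : Sylow q H) (ha : a ∈ (Q : Subgroup H)) (hx : x ∈ E) (hy : y ∈ E)
    (c : y * a = a * y) : y * ⁅a, x⁆ = ⁅a, x⁆ * y := by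
  have h1 := M.cZ na Q ha (M.cm hy x⁻¹) (M.cc (inv_mem hx) hy)
  have h2 : Commute (x⁻¹ * y * x) a := by
    have := Commute.mul_left (show Commute ⁅x⁻¹, y⁆ a from h1) (show Commute y a from c)
    simpa [commutatorElement_def] using this
  calc y * ⁅a, x⁆ = a * x * (x⁻¹ * (a⁻¹ * y * a) * x) * a⁻¹ * x⁻¹ := by
        simp only [commutatorElement_def]; group
    _ = a * x * (a⁻¹ * (x⁻¹ * y * x)) * x⁻¹ := by
        rw [mul_assoc a⁻¹, c, inv_mul_cancel_left, mul_assoc (a * x), h2.inv_right.eq]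
    _ = _ := by simp only [commutatorElement_def]; group

end MinE

variable {V : Type*} [Group V] [Finite V] {φ : H →* MulAut V}

theorem MinE.main (M : MinE q s E) (O : One φ q) (I : Irr φ)
    (cyc : ∀ B : Subgroup H, B.Normal → (∀ a ∈ B, ∀ b ∈ B, a * b = b * a) → IsCyclic B)
    (hz : ∃ z ∈ E, z ≠ 1 ∧ ∀ Q : Sylow q H, ∀ a ∈ (Q : Subgroup H), a * z = z * a) :
    s = 2 ∧ ∃ z, TT.XS E z ∧ ∃ (Q : Sylow q H) (A D : Subgroup H), A ≤ E ∧ D ≤ E ∧
      (∀ a ∈ (Q : Subgroup H), ∀ x ∈ E, ⁅a, x⁆ ∈ D) ∧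
      (∀ x ∈ D, ∀ y ∈ D, x ∉ A → y ∉ A → x * y ∈ A) ∧
      ∀ x ∈ A, ∀ y ∈ A, x ∉ centralizer (Q : Set H) → y ∉ centralizer (Q : Set H) →
        x * y ∈ centralizer (Q : Set H) := by
  have := M.nE
  have := I.nt
  have := Fact.mk M.ps
  have na : ¬ E ≤ centralizer E := fun c => M.not_cyc hz (cyc E M.nE fun a ha b hb => c hb a ha)
  obtain ⟨A, ⟨A1, A2⟩, hm⟩ := Set.Finite.exists_maximal (Set.toFinite
    {A : Subgroup H | A ≤ E ∧ A ≤ centralizer A}) ⟨⊥, bot_le, bot_le⟩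
  have mA : ∀ x ∈ E, x ∈ centralizer (A : Set H) → x ∈ A := fun x hx c => by
    refine hm (y := A ⊔ zpowers x) ⟨sup_le A1 (zpowers_le.2 hx), sup_le (fun a ha =>
      TT.XS.mem_centralizer_sup_zpowers.2 ⟨A2 ha, c a ha⟩) (zpowers_le.2
      (TT.XS.mem_centralizer_sup_zpowers.2 ⟨c, rfl⟩))⟩ le_sup_left (mem_sup_right (mem_zpowers x))
  have ZA : ∀ y ∈ E, y ∈ centralizer (E : Set H) → y ∈ A := fun y hy c =>
    mA y hy (centralizer_le A1 c)
  obtain ⟨v, m⟩ := exists_mx φ A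
  obtain ⟨b, hb, gen⟩ := m.cyc fun a ha b hb => A2 hb a ha
  obtain ⟨Q, hQ, -⟩ := O.nq v m.ne
  have cK : ∀ k ∈ A, k ∈ St φ v → k ∈ centralizer (Q : Set H) := fun k h1 h2 a ha => by
    obtain ⟨j, hj⟩ := M.pE.exists_card_eq
    exact (O.comm m.ne hQ M.nE (hj ▸ ((Nat.coprime_primes M.ps M.pq).2 M.ne).pow_left j)
      (A1 h1) h2 ha).symm
  have cZ : ∀ y ∈ E, y ∈ centralizer (E : Set H) → y ∈ centralizer (Q : Set H) :=
    fun y h1 h2 a ha => (M.cZ na Q ha h1 h2).symm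
  have KZ : ∀ y ∈ E, y ∈ centralizer (E : Set H) → y ∈ St φ v → y = 1 := fun y h1 h2 h3 =>
    zpowers_eq_bot.1 (I.fix (normal_of_le_cyclic (cyc (E ⊓ centralizer E) inferInstance
      fun a ha b hb => hb.2 a ha.1) (zpowers_le.2 ⟨h1, h2⟩)) m.ne (zpowers_le.2 h3))
  have dec : ∀ x ∈ A, ∃ n : ℤ, (b ^ n)⁻¹ * x ∈ St φ v ∧ (b ^ n)⁻¹ * x ∈ centralizer (Q : Set H) :=
    fun x hx => (gen x hx).imp fun n h => ⟨h, cK _ (mul_mem (inv_mem (zpow_mem hb n)) hx) h⟩
  have nb : b ∉ centralizer (Q : Set H) := fun c => M.nc Q fun a ha x hx => by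
    have cA : ∀ y ∈ A, y ∈ centralizer (Q : Set H) := fun y hy => by
      obtain ⟨n, -, h⟩ := dec y hy
      simpa using mul_mem (zpow_mem c n) h
    exact (M.cop Q ha hx (cA _ (mA _ (M.cm hx a) fun y hy =>
      M.comm_cm na Q ha hx (A1 hy) (cA y hy a ha).symm) a ha)).symm
  have sd : ∀ n : ℤ, b ^ n ∈ centralizer (Q : Set H) → (s : ℤ) ∣ n := fun n h => by
    by_contra c
    obtain ⟨j, hj⟩ := M.pE ⟨b, A1 hb⟩
    obtain ⟨u, w, e⟩ := ((Nat.prime_iff_prime_int.1 M.ps).coprime_iff_not_dvd.2 c).pow_left (m := j)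
    refine nb ?_
    rw [← zpow_one b, ← e, zpow_add, mul_comm u, zpow_mul, ← Nat.cast_pow, zpow_natCast,
      show b ^ s ^ j = 1 from congrArg Subtype.val hj, one_zpow, one_mul, mul_comm, zpow_mul]
    exact zpow_mem h w
  have zd : ∀ y ∈ E, y ∈ centralizer (E : Set H) → ∃ n : ℤ, ((b ^ s) ^ n)⁻¹ * y = 1 := fun y h1 h2 => by
    obtain ⟨n, k1, k2⟩ := dec y (ZA y h1 h2)
    obtain ⟨j, rfl⟩ := sd n (by simpa using mul_mem (cZ y h1 h2) (inv_mem k2))
    rw [zpow_mul, zpow_natCast] at k1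
    exact ⟨j, KZ _ (mul_mem (inv_mem (zpow_mem (pow_mem (A1 hb) s) j)) h1)
      (mul_mem (inv_mem (zpow_mem (M.pow_cent na (A1 hb)) j)) h2) k1⟩
  obtain ⟨x0, x1, x2⟩ := SetLike.not_le_iff_exists.1 na
  have b1 : b ^ s ≠ 1 := fun c => x2 fun y hy => by
    obtain ⟨n, e⟩ := zd _ (M.cm x1 y) (M.cc hy x1)
    rw [c, one_zpow, inv_one, one_mul] at e
    exact commutatorElement_eq_one_iff_mul_comm.1 e
  obtain rfl : s = 2 := by
    by_contra c
    exact b1 (M.expo na dvd_rfl (Grp.CommPow.dvd_choose_two (M.ps.odd_of_ne_two c)) (A1 hb))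
  have zz : b ^ 2 * b ^ 2 = 1 := by
    rw [← pow_add]; exact M.expo na (by decide) (by decide) (A1 hb)
  have zd' : ∀ y ∈ E, y ∈ centralizer (E : Set H) → y = 1 ∨ y = b ^ 2 := fun y h1 h2 => by
    obtain ⟨n, e⟩ := zd y h1 h2
    exact (TT.mem_zpowers_invol zz).1 ⟨n, inv_mul_eq_one.1 e⟩
  have zc := M.pow_cent na (A1 hb)
  have xs : TT.XS E (b ^ 2) := ⟨pow_mem (A1 hb) 2, b1, zz, zc, fun x hx y hy =>
    (zd' _ (M.cm hy x) (M.cc hx hy)).imp commutatorElement_eq_one_iff_mul_comm.1 fun e => by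
      rw [zc _ (mul_mem hy hx), ← e, commutatorElement_def]; group,
    fun x hx c => zd' x hx fun y hy => (c y hy).symm,
    x0, x1, fun e => x2 (e ▸ one_mem _), fun e => x2 (e ▸ zc)⟩
  refine ⟨rfl, _, xs, Q, A, E ⊓ centralizer (A ⊓ St φ v : Subgroup H), A1, inf_le_left,
    fun a ha x hx => ⟨M.cm hx a, fun y hy => M.comm_cm na Q ha hx (A1 hy.1)
      (cK y hy.1 hy.2 a ha).symm⟩, fun x hx y hy n1 n2 => ?_, fun x hx y hy n1 n2 => ?_⟩
  · have k : ∀ x ∈ E ⊓ centralizer (A ⊓ St φ v : Subgroup H), x * b = b * x → x ∈ A := fun x hx c =>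
      mA x hx.1 fun y hy => by
        obtain ⟨n, h⟩ := gen y hy
        have := Commute.mul_left (Commute.zpow_left (show Commute b x from c.symm) n)
          (hx.2 _ ⟨A.mul_mem (A.inv_mem (zpow_mem hb n)) hy, h⟩)
        rwa [mul_inv_cancel_left] at this
    exact k _ (mul_mem hx hy) (xs.mul_comm_of_not_comm (A1 hb) hx.1 hy.1 (mt (k x hx) n1)
      (mt (k y hy) n2))
  · have ev : ∀ n : ℤ, Even n → b ^ n ∈ centralizer (Q : Set H) := fun n ⟨j, e⟩ => by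
      rw [e, ← two_mul, zpow_mul, zpow_ofNat]
      exact zpow_mem (cZ _ xs.z_mem zc) j
    obtain ⟨n, -, k1⟩ := dec x hx
    obtain ⟨j, -, k2⟩ := dec y hy
    have o1 := Int.not_even_iff_odd.1 fun e => n1 (by simpa using mul_mem (ev n e) k1)
    have o2 := Int.not_even_iff_odd.1 fun e => n2 (by simpa using mul_mem (ev j e) k2)
    have := mul_mem (mul_mem (ev _ (o2.add_odd o1)) k1) k2
    rwa [zpow_add, mul_assoc (b ^ j), mul_inv_cancel_left, ← A2 (zpow_mem hb j) x hx, mul_assoc,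
      mul_inv_cancel_left] at this

end Cfsg.Agent.Palfy
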