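import Cfsg.Agent.Palfy.Defs
import Cfsg.Agent.TT.XS

/-! Solvable subgroups of `Sp(U)` over `F₂` containing an element of odd order with `|[U, a]| ≤ 4`. -/

set_option autoImplicit false

namespace Cfsg.Agent.Palfy

open Subgroup

variable {H U : Type*} [Group H] [CommGroup U] [Finite U]

structure Form (ψ : H →* MulAut U) (ω : U → U → ZMod 2) : Prop where
  two : ∀ u : U, u * u = 1
  add : ∀ a b c, ω (a * b) c = ω a c + ω b c
  symm : ∀ a b, ω a b = ω b a
  alt : ∀ a, ω a a = 0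
  nd : ∀ a, (∀ b, ω a b = 0) → a = 1
  inv : ∀ h a b, ω (ψ h a) (ψ h b) = ω a b

/-- `u ↦ [u, f]` -/
def del (ψ : H →* MulAut U) (f : H) : U →* U := (ψ f).toMonoidHom * (MonoidHom.id U)⁻¹

omit [Finite U] in
theorem del_apply (ψ : H →* MulAut U) (f : H) (u : U) : del ψ f u = ψ f u * u⁻¹ := rfl

theorem card_modEq_one {ψ : H →* MulAut U} {f : H} {t : ℕ} (ht : t.Prime) (hf : f ^ t = 1)
    {W : Subgroup U} (hW : ∀ w ∈ W, ψ f w ∈ W) (fix : ∀ w ∈ W, ψ f w = w → w = 1) :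
    Nat.card W ≡ 1 [MOD t] := by
  classical
  have := Fact.mk ht
  have := Fintype.ofFinite W
  let g : Function.End W := fun w => ⟨ψ f w, hW w w.2⟩
  have k : ∀ (n : ℕ) (w : W), ((g ^ n) w : U) = ψ (f ^ n) w := fun n => by
    induction n with
    | zero => intro w; simp; rfl
    | succ n ih => intro w; rw [pow_succ, pow_succ, ap_mul]; exact ih _
  have := Equiv.Perm.card_fixedPoints_modEq (f := g) (p := t) (n := 1) (funext fun w =>
    Subtype.ext (by rw [k, pow_one, hf, map_one]; rfl))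
  rw [Nat.card_eq_fintype_card]
  convert this using 1
  exact (Fintype.card_eq_one_iff.2 ⟨⟨1, (Subtype.ext (map_one (ψ f)) : g 1 = 1)⟩, fun w =>
    Subtype.ext (Subtype.ext (fix _ w.1.2 (congrArg Subtype.val (show g w.1 = w.1 from w.2))))⟩).symm

namespace Form

variable {ψ : H →* MulAut U} {ω : U → U → ZMod 2} (F : Form ψ ω)
include F

omit [Finite U] in
theorem inv_eq (u : U) : u⁻¹ = u := inv_eq_of_mul_eq_one_right (F.two u)

omit [Finite U] in
theorem isP (W : Subgroup U) : IsPGroup 2 W := fun w => ⟨1, Subtype.ext (by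
  rw [pow_one, sq]; exact F.two _)⟩

theorem three {W : Subgroup U} (nd : ∀ a ∈ W, (∀ b ∈ W, ω a b = 0) → a = 1) :
    Nat.card W ≡ 1 [MOD 3] := by
  classical
  have := Fact.mk Nat.prime_three
  have := Fintype.ofFinite W
  have z2 : ∀ a : ZMod 2, a ≠ 0 ↔ a = 1 := by decide
  let g : Function.End {x : W × W // ω x.1 x.2 = 1} := fun x => ⟨(x.1.2, x.1.1 * x.1.2), by
    rw [coe_mul, F.symm, F.add, x.2, F.alt, add_zero]⟩
  have t : ∀ a : W, a * a = 1 := fun a => Subtype.ext (F.two a)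
  have h1 := Equiv.Perm.card_fixedPoints_modEq (f := g) (p := 3) (n := 1) (funext fun x =>
    Subtype.ext (Prod.ext (by
      change x.1.2 * (x.1.1 * x.1.2) = x.1.1
      rw [mul_left_comm, t, mul_one]) (by
      change x.1.1 * x.1.2 * (x.1.2 * (x.1.1 * x.1.2)) = x.1.2
      rw [mul_left_comm, t, mul_one])))
  rw [Fintype.card_eq_zero_iff.2 (⟨fun x => zero_ne_one (by
    have := x.1.2
    rwa [← show x.1.1.2 = x.1.1.1 from congrArg (·.1.1) x.2, F.alt] at this)⟩ :
      IsEmpty g.fixedPoints), Fintype.card_congr (Equiv.subtypeProdEquivSigmaSubtype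
      fun a b : W => ω a b = 1), Fintype.card_sigma] at h1
  have h2 : ∀ a : W, a ≠ 1 → 2 * Fintype.card {b : W // ω a b = 1} = Fintype.card W := fun a ha => by
    obtain ⟨c, hc, e⟩ : ∃ c ∈ W, ω a c = 1 := by
      by_contra n
      push Not at n
      exact ha (Subtype.ext (nd a a.2 fun b hb => not_not.1 (mt (z2 _).1 (n b hb))))
    have k : ∀ b : W, ω a (b * ⟨c, hc⟩ : W) = 1 ↔ ¬ ω a b = 1 := fun b => by
      rw [coe_mul, F.symm, F.add, F.symm c, e, F.symm]
      generalize ω a b = x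
      revert x; decide
    have := Fintype.card_congr (Equiv.subtypeEquiv (Equiv.mulRight (⟨c, hc⟩ : W))
      (p := fun b : W => ¬ ω a b = 1) (q := fun b : W => ω a b = 1) fun b => (k b).symm)
    rw [Fintype.card_subtype_compl] at this
    have := Fintype.card_subtype_le fun b : W => ω a b = 1
    omega
  have h3 : Fintype.card {b : W // ω (1 : W) b = 1} = 0 := Fintype.card_eq_zero_iff.2 ⟨fun b => by
    have := F.add 1 1 b
    rw [mul_one, show ω 1 b = 1 from b.2] at this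
    exact absurd this (by decide)⟩
  have h4 := h1.mul_left 2
  rw [← Finset.add_sum_erase _ _ (Finset.mem_univ 1), h3, zero_add, Finset.mul_sum,
    Finset.sum_congr rfl fun a ha => h2 a (Finset.ne_of_mem_erase ha), Finset.sum_const,
    Finset.card_erase_of_mem (Finset.mem_univ _), Finset.card_univ, ← Nat.card_eq_fintype_card,
    smul_eq_mul, mul_zero, Nat.modEq_zero_iff_dvd] at h4
  obtain ⟨k, hk⟩ := (F.isP W).exists_card_eq
  refine ((Nat.modEq_iff_dvd' Nat.card_pos).2 ((Nat.prime_three.dvd_mul.1 h4).resolve_right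
    fun e => ?_)).symm
  exact absurd (Nat.prime_three.dvd_of_dvd_pow (hk ▸ e)) (by decide)

variable {f : H} {t : ℕ} (ht : Odd t) (hf : f ^ t = 1)
include ht hf

omit [Finite U] in
theorem fix {w : U} (hw : w ∈ (del ψ f).range) (e : ψ f w = w) : w = 1 := by
  obtain ⟨u, rfl⟩ := hw
  have k : ∀ n : ℕ, ψ (f ^ n) u = del ψ f u ^ n * u := fun n => by
    induction n with
    | zero => simp
    | succ n ih =>
      rw [pow_succ', ap_mul, ih, map_mul, map_pow, e, pow_succ, mul_assoc, del_apply ψ f u,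
        inv_mul_cancel_right]
  have := k t
  obtain ⟨j, rfl⟩ := ht
  rwa [hf, map_one, pow_succ, pow_mul, sq, F.two, one_pow, one_mul, MulAut.one_apply, eq_comm,
    mul_eq_right] at this

theorem three_del : Nat.card (del ψ f).range ≡ 1 [MOD 3] := by
  refine F.three fun a ha h => F.nd a fun u => ?_
  let δ : (del ψ f).range →* (del ψ f).range := (del ψ f).rangeRestrict.comp (Subgroup.subtype _)
  obtain ⟨w, e⟩ := Finite.surjective_of_injective ((injective_iff_map_eq_one δ).2 fun w e =>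
    Subtype.ext (F.fix ht hf w.2 (mul_inv_eq_one.1 (congrArg Subtype.val e)))) ⟨_, u, rfl⟩
  have e1 : ψ f (u * w) = u * w := mul_inv_eq_one.1 (by
    rw [← del_apply, map_mul, show del ψ f w = del ψ f u from congrArg Subtype.val e, F.two])
  obtain ⟨x, rfl⟩ := ha
  have e2 : ω (del ψ f x) (u * w) = 0 := by
    rw [del_apply, F.add, F.inv_eq, ← F.inv f x, e1]
    exact CharTwo.add_self_eq_zero _
  rwa [F.symm, F.add, F.symm w, h w w.2, add_zero, F.symm] at e2

end Form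

omit [Finite U] in
theorem del_ap {ψ : H →* MulAut U} {f : H} {w : U} (hw : w ∈ (del ψ f).range) :
    ψ f w ∈ (del ψ f).range := by
  obtain ⟨u, rfl⟩ := hw
  exact ⟨ψ f u, by rw [del_apply, del_apply, map_mul, map_inv]⟩

theorem Irr.one_lt_del {ψ : H →* MulAut U} (I : Irr ψ) {f : H} (hf : f ≠ 1) :
    1 < Nat.card (del ψ f).range := by
  rw [one_lt_card_iff_ne_bot]
  exact fun e => hf (zpowers_eq_bot.1 (I.eq_bot fun u => zpowers_le.2
    (mul_inv_eq_one.1 (mem_bot.1 (e.le ⟨u, rfl⟩)))))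

theorem Irr.K2 [Finite H] [Group.IsSolvable H] {ψ : H →* MulAut U} {ω : U → U → ZMod 2} (I : Irr ψ)
    (F : Form ψ ω) {q : ℕ} (hq : q.Prime) (q2 : q ≠ 2) {a : H} (a1 : a ≠ 1) (aq : a ^ q = 1)
    {A D : Subgroup U} (hD : ∀ u, ψ a u * u⁻¹ ∈ D)
    (h1 : ∀ x ∈ D, ∀ y ∈ D, x ∉ A → y ∉ A → x * y ∈ A)
    (h2 : ∀ x ∈ A, ∀ y ∈ A, ψ a x ≠ x → ψ a y ≠ y → ψ a (x * y) = x * y) :
    q = 3 ∧ pCore 3 H ≠ ⊥ := by
  have qo := hq.odd_of_ne_two q2
  have c4 : Nat.card (del ψ a).range ≤ 4 := by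
    have m : ∀ x ∈ (del ψ a).range, x ∈ D := fun _ ⟨u, e⟩ => e ▸ hD u
    have b1 := TT.card_le_two_mul_of_mul_mem (A := (del ψ a).range) (B := (del ψ a).range ⊓ A)
      inf_le_left fun x hx y hy n1 n2 => ⟨mul_mem hx hy, h1 x (m x hx) y (m y hy)
        (fun e => n1 ⟨hx, e⟩) fun e => n2 ⟨hy, e⟩⟩
    have b2 := TT.card_le_two_mul_of_mul_mem (A := (del ψ a).range ⊓ A) (B := ⊥) bot_le
      fun x hx y hy n1 n2 => F.fix qo aq (mul_mem hx.1 hy.1) (h2 x hx.2 y hy.2
        (fun e => n1 (F.fix qo aq hx.1 e)) fun e => n2 (F.fix qo aq hy.1 e))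
    rw [card_bot] at b2
    omega
  have key : ∀ {f : H} {t : ℕ}, t.Prime → t ≠ 2 → f ≠ 1 → f ^ t = 1 →
      t ∣ Nat.card (del ψ f).range - 1 ∧ 3 ∣ Nat.card (del ψ f).range - 1 := fun ht t2 _ hf =>
    ⟨(Nat.modEq_iff_dvd' Nat.card_pos).1 (card_modEq_one ht hf (fun _ => del_ap) fun _ =>
      F.fix (ht.odd_of_ne_two t2) hf).symm,
      (Nat.modEq_iff_dvd' Nat.card_pos).1 (F.three_del (ht.odd_of_ne_two t2) hf).symm⟩
  obtain rfl : q = 3 := by
    obtain ⟨k1, k2⟩ := key hq q2 a1 aq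
    have := I.one_lt_del a1
    rw [show Nat.card (del ψ a).range - 1 = 3 by omega] at k1
    exact (Nat.prime_dvd_prime_iff_eq hq Nat.prime_three).1 k1
  refine ⟨rfl, fun o3 => ?_⟩
  have := Fact.mk Nat.prime_two
  have := Fact.mk Nat.prime_three
  have o2 : pCore 2 H = ⊥ := by
    have := I.nt
    let _ : MulAction (pCore 2 H) U := MulAction.compHom U (ψ.comp (pCore 2 H).subtype)
    obtain ⟨k, hk, e⟩ := (F.isP ⊤).nontrivial_iff_card.1 inferInstance
    obtain ⟨u, hu, n⟩ := (Grp.pCore_isPGroup 2 H).exists_fixed_point_of_prime_dvd_card_of_fixed_point U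
      (by rw [← card_top, e]; exact dvd_pow_self _ hk.ne') (a := 1) fun g => map_one (ψ g)
    exact I.fix inferInstance n.symm fun g hg => hu ⟨g, hg⟩
  have nF : ∀ {s : ℕ} [Fact s.Prime], pCore s H = ⊥ → ∀ f ∈ fittingSubgroup H, f ^ s = 1 → f = 1 :=
    fun {s} _ o f hf e => zpowers_eq_bot.1 (eq_bot_iff.2 (o ▸ Grp.le_pCore_of_le_fitting
      (fun ⟨_, n, rfl⟩ => ⟨1, Subtype.ext (by
        change (f ^ n) ^ s ^ 1 = 1
        rw [pow_one, ← zpow_natCast, ← zpow_mul, mul_comm, zpow_mul, zpow_natCast, e, one_zpow])⟩)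
      (zpowers_le.2 hf)))
  obtain ⟨g, hg, n⟩ : ∃ g ∈ fittingSubgroup H, g * a ≠ a * g := by
    by_contra c
    push Not at c
    exact a1 (nF o3 a (Grp.centralizer_fitting_le H c) aq)
  let W := (del ψ a).range ⊔ (del ψ a).range.map (ψ g).toMonoidHom
  have c16 : Nat.card W ≤ 16 := by
    have b := Nat.le_of_dvd (Nat.mul_pos Nat.card_pos Nat.card_pos)
      (Grp.card_sup_dvd (del ψ a).range ((del ψ a).range.map (ψ g).toMonoidHom))
    rw [card_map_of_injective (ψ g).injective] at b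
    nlinarith
  let X : Subgroup H :=
    { carrier := {f | ∀ u, ψ f u * u⁻¹ ∈ W}
      one_mem' := fun u => by simp
      mul_mem' := fun {x y} hx hy u => by
        simpa [ap_mul] using mul_mem (hx (ψ y u)) (hy u)
      inv_mem' := fun {x} hx u => by simpa [ap_inv', mul_comm] using inv_mem (hx (ψ x⁻¹ u)) }
  have aX : a ∈ X := fun u => mem_sup_left ⟨u, rfl⟩
  have bX : g * a * g⁻¹ ∈ X := fun u => mem_sup_right ⟨_, ⟨ψ g⁻¹ u, rfl⟩, by
    simp [del_apply]⟩
  have five : ∀ f ∈ X ⊓ fittingSubgroup H, ∀ t : ℕ, t.Prime → f ≠ 1 → f ^ t = 1 →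
      t = 5 ∧ ∀ w ∈ W, ψ f w = w → w = 1 := fun f hf t ht f1 e => by
    have t2 : t ≠ 2 := fun c => f1 (nF o2 f hf.2 (c ▸ e))
    have t3 : t ≠ 3 := fun c => f1 (nF o3 f hf.2 (c ▸ e))
    obtain ⟨k1, k2⟩ := key ht t2 f1 e
    have le : (del ψ f).range ≤ W := fun _ ⟨u, e⟩ => e ▸ hf.1 u
    have b1 := card_le_of_le le
    have b2 := I.one_lt_del f1
    have b3 := Nat.le_of_dvd (by omega) (((Nat.coprime_primes ht Nat.prime_three).2 t3).mul_dvd_of_dvd_of_dvd
      k1 k2)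
    have b4 := ht.two_le
    have t4 : t ≠ 4 := fun c => absurd (c ▸ ht) (by decide)
    have e2 : (del ψ f).range = W := eq_of_le_of_card_ge le (by omega)
    exact ⟨by omega, fun w hw => F.fix (ht.odd_of_ne_two t2) e (e2.ge hw)⟩
  have pw : ∀ f : H, f ≠ 1 → ∃ k t : ℕ, t.Prime ∧ f ^ k ≠ 1 ∧ (f ^ k) ^ t = 1 := fun f f1 => by
    obtain ⟨t, ht, k, e⟩ := Nat.exists_prime_and_dvd (mt orderOf_eq_one_iff.1 f1)
    have := orderOf_pos f
    have := ht.two_le
    refine ⟨k, t, ht, pow_ne_one_of_lt_orderOf (fun c => by simp_all) (by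
      have : 0 < k := Nat.pos_of_ne_zero fun c => by simp_all
      nlinarith), by rw [← pow_mul, mul_comm, ← e, pow_orderOf_eq_one]⟩
  obtain ⟨w0, w1, w2⟩ := (bot_or_exists_ne_one (del ψ a).range).resolve_left
    ((one_lt_card_iff_ne_bot _).1 (I.one_lt_del a1))
  have w3 : w0 ∈ W := mem_sup_left w1
  have b1 : Nat.card (X ⊓ fittingSubgroup H : Subgroup H) ≤ 16 := by
    refine (Nat.card_le_card_of_injective (fun f : (X ⊓ fittingSubgroup H : Subgroup H) =>
      (⟨ψ f w0 * w0⁻¹, f.2.1 w0⟩ : W)) fun f f' e => ?_).trans c16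
    by_contra c
    obtain ⟨k, t, ht, k1, k2⟩ := pw (f'⁻¹ * f : H) fun e => c (Subtype.ext (inv_mul_eq_one.1 e).symm)
    refine w2 ((five _ (pow_mem (mul_mem (inv_mem f'.2) f.2) k) t ht k1 k2).2 w0 w3
      (pow_mem (show _ ∈ St ψ w0 from ?_) k))
    rw [mem_St, ap_mul, mul_right_cancel (congrArg Subtype.val e), ap_inv]
  have := Fact.mk Nat.prime_five
  have p5 : IsPGroup 5 (X ⊓ fittingSubgroup H : Subgroup H) := by
    refine IsPGroup.of_card (n := _) (Nat.eq_prime_pow_of_unique_prime_dvd Nat.card_pos.ne'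
      fun {t} ht d => ?_)
    have := Fact.mk ht
    obtain ⟨f, hf⟩ := exists_prime_orderOf_dvd_card' t d
    exact (five f f.2 t ht (fun e => ht.ne_one (by rw [← hf, orderOf_eq_one_iff]; exact Subtype.ext e))
      (by rw [← hf, ← orderOf_coe, pow_orderOf_eq_one])).1
  have gm : a⁻¹ * (g * a * g⁻¹) ∈ X ⊓ fittingSubgroup H := ⟨X.mul_mem (X.inv_mem aX) bX, by
    simpa [mul_assoc] using (fittingSubgroup H).mul_mem
      ((inferInstance : (fittingSubgroup H).Normal).conj_mem' g hg a) (inv_mem hg)⟩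
  have g1 : a⁻¹ * (g * a * g⁻¹) ≠ 1 := fun e => n (mul_inv_eq_iff_eq_mul.1 (inv_mul_eq_one.1 e).symm)
  have c5 : Nat.card (X ⊓ fittingSubgroup H : Subgroup H) = 5 := by
    obtain ⟨k, hk⟩ := p5.exists_card_eq
    have := (one_lt_card_iff_ne_bot _).2 fun e => g1 (mem_bot.1 (e.le gm))
    rw [hk] at b1 this ⊢
    rcases k with _ | _ | k
    · omega
    · rfl
    · rw [pow_succ, pow_succ] at b1
      have := Nat.pos_of_ne_zero (pow_ne_zero k (by decide : 5 ≠ 0))
      omega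
  have cy := isCyclic_of_prime_card c5
  have aN : a ∈ normalizer ((X ⊓ fittingSubgroup H : Subgroup H) : Set H) :=
    inf_normalizer_le_normalizer_inf ⟨le_normalizer aX, (normalizer_eq_top _).ge (mem_top a)⟩
  have e1 : (X ⊓ fittingSubgroup H).normalizerMonoidHom ⟨a, aN⟩ = 1 := by
    have d1 := orderOf_dvd_natCard ((X ⊓ fittingSubgroup H).normalizerMonoidHom ⟨a, aN⟩)
    rw [IsCyclic.card_mulAut, c5, Nat.totient_prime Nat.prime_five] at d1
    have d2 : orderOf ((X ⊓ fittingSubgroup H).normalizerMonoidHom ⟨a, aN⟩) ∣ 3 :=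
      orderOf_dvd_of_pow_eq_one (by rw [← map_pow, show (⟨a, aN⟩ : normalizer _) ^ 3 = 1 from Subtype.ext aq, map_one])
    exact orderOf_eq_one_iff.1 (Nat.eq_one_of_dvd_coprimes (by decide) d1 d2)
  have e2 : Commute a (a⁻¹ * (g * a * g⁻¹)) :=
    ((normalizerMonoidHom_ker _).le (MonoidHom.mem_ker.2 e1) _ gm).symm
  have e3 := e2.mul_pow 3
  rw [mul_inv_cancel_left, conj_pow, aq, one_mul, mul_one, mul_inv_cancel] at e3
  exact g1 (nF o3 _ gm.2 e3.symm)

end Cfsg.Agent.Palfy
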