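import Cfsg.Agent.Palfy.Cyc
import Cfsg.Agent.Palfy.K1
import Cfsg.Agent.Palfy.K2
import Cfsg.Agent.Palfy.Dv
import Cfsg.Agent.Char.AmbExt

/-! The key lemma: two primes with unique Sylow subgroups in all stabilisers are adjacent. -/

set_option autoImplicit false

namespace Cfsg.Agent.Palfy

open Subgroup
open scoped commutatorElement

variable {H : Type*} [Group H] {E : Subgroup H} {z x y w : H} {q r : ℕ}

theorem exists_faithful {Z : Type*} [Group Z] [Finite Z] (c : IsCyclic Z) :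
    ∃ μ : Z →* ℂˣ, Function.Injective μ :=
  have : NeZero (Nat.card Z) := ⟨Nat.card_pos.ne'⟩
  ⟨(rootsOfUnity (Nat.card Z) ℂ).subtype.comp (mulEquivOfCyclicCardEq
    (HasEnoughRootsOfUnity.natCard_rootsOfUnity ℂ _).symm).toMonoidHom,
    (subtype_injective _).comp (MulEquiv.injective _)⟩

open Classical in
noncomputable def cz (x y : H) : ZMod 2 := if x * y = y * x then 0 else 1

theorem cm_eq_zero : cz x y = 0 ↔ x * y = y * x := by unfold cz; split_ifs with h <;> simp [h]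

theorem cm_symm (x y : H) : cz x y = cz y x := by
  classical exact if_congr eq_comm rfl rfl

theorem cm_conj (g x y : H) : cz (g * x * g⁻¹) (g * y * g⁻¹) = cz x y := by
  classical exact if_congr (by rw [conj_mul, conj_mul, mul_left_inj, mul_right_inj]) rfl rfl

theorem cm_mul (xs : TT.XS E z) (hx : x ∈ E) (hy : y ∈ E) (hw : w ∈ E) :
    cz (x * y) w = cz x w + cz y w := by
  unfold cz
  by_cases a : x * w = w * x <;> by_cases b : y * w = w * y
  · rw [if_pos a, if_pos b, if_pos (Commute.mul_left a b).eq, add_zero]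
  · rw [if_pos a, if_neg b, if_neg fun c => b (by
      simpa using (Commute.mul_left (Commute.inv_left a) c).eq), zero_add]
  · rw [if_neg a, if_pos b, if_neg fun c => a (by
      simpa using (Commute.mul_left c (Commute.inv_left b)).eq), add_zero]
  · rw [if_neg a, if_neg b, if_pos (xs.mul_comm_of_not_comm hw hx hy a b)]
    rfl

/-- the sign of an element of `ZMod 2` -/
noncomputable def sg (a : ZMod 2) : ℂˣ := if a = 0 then 1 else -1

theorem sg_add (a b : ZMod 2) : sg (a + b) = sg a * sg b := by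
  have z2 : ∀ a : ZMod 2, a = 0 ∨ a = 1 := by decide
  rcases z2 a with rfl | rfl <;> rcases z2 b with rfl | rfl <;>
    simp [sg, show (1 + 1 : ZMod 2) = 0 from rfl]

theorem sg_inj {a b : ZMod 2} (h : sg a = sg b) : a = b := by
  have z2 : ∀ a : ZMod 2, a = 0 ∨ a = 1 := by decide
  have n : (1 : ℂˣ) ≠ -1 := fun e => by
    have := congrArg Units.val e
    norm_num at this
  rcases z2 a with rfl | rfl <;> rcases z2 b with rfl | rfl <;> simp_all [sg, eq_comm]

/-- `x ↦ [x, ·]` -/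
noncomputable def mu (xs : TT.XS E z) : E →* (E →* ℂˣ) :=
  MonoidHom.mk' (fun x => MonoidHom.mk' (fun y => sg (cz x.1 y.1)) fun a b => by
    rw [cm_symm, coe_mul, cm_mul xs a.2 b.2 x.2, sg_add, cm_symm a.1, cm_symm b.1])
    fun a b => MonoidHom.ext fun y => (congrArg sg (cm_mul xs a.2 b.2 y.2)).trans (sg_add _ _)

theorem mu_apply (xs : TT.XS E z) (x y : E) : mu xs x y = sg (cz x.1 y.1) := rfl

theorem dual_mu [hE : E.Normal] (xs : TT.XS E z) (g : H) (x : E) :
    dual E g (mu xs x) = mu xs ⟨g * x * g⁻¹, hE.conj_mem _ x.2 g⟩ := MonoidHom.ext fun y => by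
  rw [dual_apply, mu_apply, mu_apply, ← cm_conj g]
  simp [mul_assoc]

theorem mu_eq_one (xs : TT.XS E z) {x : E} : mu xs x = 1 ↔ x.1 ∈ centralizer (E : Set H) :=
  ⟨fun h y hy => (cm_eq_zero.1 (sg_inj ((DFunLike.congr_fun h ⟨y, hy⟩).trans (if_pos rfl).symm))).symm,
    fun h => MonoidHom.ext fun y => by
      rw [mu_apply, cm_eq_zero.2 (h y y.2).symm]; exact if_pos rfl⟩

variable [Finite H] [Group.IsSolvable H]

theorem MinE.orbit (M : MinE q 2 E) (xs : TT.XS E z) {Q : Sylow q H} {A D : Subgroup H}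
    (h0 : ∀ a ∈ (Q : Subgroup H), ∀ x ∈ E, ⁅a, x⁆ ∈ D)
    (h1 : ∀ x ∈ D, ∀ y ∈ D, x ∉ A → y ∉ A → x * y ∈ A)
    (h2 : ∀ x ∈ A, ∀ y ∈ A, x ∉ centralizer (Q : Set H) → y ∉ centralizer (Q : Set H) →
      x * y ∈ centralizer (Q : Set H)) :
    have := M.nE
    q = 3 ∧ ∃ x, ∀ P : Sylow q H, ¬ (P : Subgroup H) ≤ St (dual E) (mu xs x) := by
  intro _
  have := Fact.mk M.pq
  have hi : Inv (dual E) (mu xs).range := by
    rintro g _ ⟨x, rfl⟩
    exact ⟨_, (dual_mu xs g x).symm⟩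
  let m := (mu xs).rangeRestrict
  have ms : Function.Surjective m := (mu xs).rangeRestrict_surjective
  let ψ := res _ _ hi
  have hψ : ∀ g x, ψ g (m x) = m ⟨g * x * g⁻¹, M.nE.conj_mem _ x.2 g⟩ := fun g x =>
    Subtype.ext (dual_mu xs g x)
  have m1 : ∀ x, m x = 1 ↔ x.1 ∈ centralizer (E : Set H) := fun x =>
    Subtype.ext_iff.trans (mu_eq_one xs)
  obtain ⟨x0, x1, x2, x3⟩ := xs.nonab
  have x4 : x0 ∉ centralizer (E : Set H) := fun c => (xs.cent x0 x1 fun y hy => (c y hy).symm).elim x2 x3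
  have I : Irr0 ψ := ⟨⟨m ⟨x0, x1⟩, 1, mt (m1 _).1 x4⟩, fun W hW => by
    have n : ((W.comap m).map E.subtype).Normal := ⟨by
      rintro _ ⟨x, hx, rfl⟩ g
      exact ⟨⟨_, M.nE.conj_mem _ x.2 g⟩, show m _ ∈ W from hψ g x ▸ hW g _ hx, rfl⟩⟩
    rcases (map_subtype_le (W.comap m)).lt_or_eq with l | e
    · refine Or.inl (eq_bot_iff.2 fun u hu => ?_)
      obtain ⟨x, rfl⟩ := ms u
      exact (m1 x).2 (M.le_cent n l ⟨x, hu, rfl⟩)
    · refine Or.inr (eq_top_iff.2 fun u _ => ?_)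
      obtain ⟨x, rfl⟩ := ms u
      obtain ⟨y, hy, e⟩ := e.ge x.2
      exact (Subtype.ext e : y = x) ▸ hy⟩
  choose σ hσ using ms
  have hω : ∀ x y, cz (σ (m x)).1 (σ (m y)).1 = cz x.1 y.1 := fun x y => by
    have k : ∀ (x w : E), cz (σ (m x)).1 w.1 = cz x.1 w.1 := fun x w =>
      sg_inj (DFunLike.congr_fun (congrArg Subtype.val (hσ (m x))) w)
    rw [k, cm_symm, k, cm_symm]
  have F : Form ψ.range.subtype fun u w => cz (σ u).1 (σ w).1 := ⟨fun u => by
      rw [← hσ u, ← map_mul, m1]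
      exact fun y hy => (xs.sq_comm (σ u).2 hy).symm,
    fun a b c => by
      rw [← hσ a, ← hσ b, ← hσ c, ← map_mul, hω, hω, hω]
      exact cm_mul xs (σ a).2 (σ b).2 (σ c).2,
    fun a b => cm_symm _ _, fun a => cm_eq_zero.2 rfl, fun a h => by
      rw [← hσ a, m1]
      exact fun y hy => (cm_eq_zero.1 ((hω _ ⟨y, hy⟩).symm.trans (by rw [hσ]; exact h _))).symm,
    by
      rintro ⟨_, g, rfl⟩ a b
      rw [← hσ a, ← hσ b, coe_subtype, hψ, hψ, hω, hω, cm_conj]⟩
  have : Finite ψ.range := Finite.of_surjective _ ψ.rangeRestrict_surjective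
  have := Group.isSolvable_of_surjective ψ.rangeRestrict_surjective
  obtain ⟨a, ha, a1, a2⟩ : ∃ a ∈ (Q : Subgroup H), ψ a ≠ 1 ∧ ψ a ^ q = 1 := by
    have n : (Q : Subgroup H).map ψ ≠ ⊥ := fun e => x4 ((M.eq_of Q (D := E ⊓ centralizer E)
      inferInstance inf_le_left fun a ha x hx => ⟨M.cm hx a, (m1 ⟨_, M.cm hx a⟩).1 (by
        have := hψ a ⟨x, hx⟩
        rw [mem_bot.1 (e.le ⟨a, ha, rfl⟩), MulAut.one_apply, eq_comm, ← mul_inv_eq_one, ← map_inv,
          ← map_mul] at this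
        exact this)⟩).ge x1).2
    have : Finite ((Q : Subgroup H).map ψ) := Finite.of_surjective _ (ψ.subgroupMap_surjective _)
    obtain ⟨k, hk, e⟩ := (Q.2.map ψ).nontrivial_iff_card.1 ((nontrivial_iff_ne_bot _).2 n)
    obtain ⟨⟨_, a, ha, rfl⟩, o⟩ := exists_prime_orderOf_dvd_card' q (e ▸ dvd_pow_self q hk.ne')
    rw [← orderOf_coe] at o
    exact ⟨a, ha, fun c => M.pq.ne_one (o.symm.trans (orderOf_eq_one_iff.2 c)),
      o ▸ pow_orderOf_eq_one _⟩
  have fx : ∀ x : E, x.1 ∈ centralizer (Q : Set H) → ψ a (m x) = m x := fun x hx => by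
    rw [hψ]
    exact congrArg m (Subtype.ext (mul_inv_eq_iff_eq_mul.2 (hx a ha)))
  obtain ⟨rfl, o3⟩ := I.range.K2 F M.pq M.ne.symm (a := ⟨_, a, rfl⟩) (fun e => a1 (congrArg Subtype.val e))
    (Subtype.ext a2) (A := (A.subgroupOf E).map m) (D := (D.subgroupOf E).map m) (fun u => by
      rw [← hσ u, coe_subtype, hψ, ← map_inv, ← map_mul]
      exact ⟨_, h0 a ha _ (σ u).2, rfl⟩) (by
      rintro _ ⟨x, hx, rfl⟩ _ ⟨y, hy, rfl⟩ n1 n2
      exact ⟨x * y, h1 x hx y hy (fun c => n1 ⟨x, c, rfl⟩) fun c => n2 ⟨y, c, rfl⟩, map_mul m x y⟩) (by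
      rintro _ ⟨x, hx, rfl⟩ _ ⟨y, hy, rfl⟩ n1 n2
      rw [← map_mul]
      exact fx _ (h2 x hx y hy (mt (fx x) n1) (mt (fx y) n2)))
  refine ⟨rfl, ⟨x0, x1⟩, fun P c => o3 (I.range.fix inferInstance (mt (m1 ⟨x0, x1⟩).1 x4)
    ((Grp.pCore_le_sylow (P.mapSurjective ψ.rangeRestrict_surjective)).trans ?_))⟩
  rintro _ ⟨g, hg, rfl⟩
  exact Subtype.ext (c hg)

variable {V : Type*} [CommGroup V] [Finite V] {φ : H →* MulAut V}

theorem One.three (O : One φ q) (I : Irr φ)
    (cyc : ∀ B : Subgroup H, B.Normal → (∀ a ∈ B, ∀ b ∈ B, a * b = b * a) → IsCyclic B) {Q : Sylow q H}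
    (hQ : (Q : Subgroup H) ≤ centralizer (fittingSubgroup H ⊓ centralizer (fittingSubgroup H) : Subgroup H)) :
    q = 3 ∧ ∃ (E : Subgroup H) (_ : E.Normal) (z : H) (xs : TT.XS E z) (x : E),
      ∀ P : Sylow q H, ¬ (P : Subgroup H) ≤ St (dual E) (mu xs x) := by
  have := Fact.mk O.prime
  have o : pCore q H = ⊥ := O.eq_bot I inferInstance (Grp.pCore_isPGroup q H)
  obtain ⟨s, hs⟩ : ∃ s : Nat.Primes, ¬ (Q : Subgroup H) ≤ centralizer (pCore s H) := by
    by_contra c
    push Not at c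
    refine O.ne_bot Q (eq_bot_iff.2 (o ▸ Grp.le_pCore_of_le_fitting Q.2
      (le_trans ?_ (Grp.centralizer_fitting_le H))))
    rw [le_centralizer_iff, Grp.fitting_eq_iSup_pCore]
    exact iSup_le fun s => le_centralizer_iff.1 (c s)
  have := Fact.mk s.2
  obtain ⟨E, M⟩ := exists_minE O.prime s.2 (fun e => hs (by
    rw [e, o]; exact fun a _ x hx => by rw [mem_bot.1 hx]; simp)) hs
  obtain ⟨z, z1, z2, z3⟩ := exists_cent M.nE M.pE (Grp.pCore_isPGroup s H) M.ne_bot
  have zs := Grp.le_pCore M.nE M.pE z1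
  have z4 : z ∈ centralizer (fittingSubgroup H : Set H) := by
    rw [← zpowers_le, le_centralizer_iff]
    exact (Grp.fitting_le_pCore_sup_pPrimeCore s).trans (sup_le (le_centralizer_iff.1 (zpowers_le.2 z3))
      (le_centralizer_iff.1 (zpowers_le.2 (Grp.pCore_le_centralizer_pPrimeCore s H zs))))
  obtain ⟨e, z, xs, P, A, D, -, -, k3, k4, k5⟩ := M.main O I cyc ⟨z, z1, z2, fun P a ha =>
    (sylow_le_normal inferInstance hQ P ha z ⟨Grp.pCore_le_fitting s zs, z4⟩).symm⟩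
  rw [e] at M
  obtain ⟨e, x, hx⟩ := M.orbit xs k3 k4 k5
  exact ⟨e, E, M.nE, z, xs, x, hx⟩

theorem Irr.KL (I : Irr φ) (O : One φ q) (P : One φ r) (ne : q ≠ r) : Dv (q * r) H := by
  have cyc : ∀ B : Subgroup H, B.Normal → (∀ a ∈ B, ∀ b ∈ B, a * b = b * a) → IsCyclic B :=
    fun B _ hB => by
      by_cases c : q = 2
      exacts [P.cyc I (c ▸ ne.symm) hB, O.cyc I c hB]
  have cZ := cyc (fittingSubgroup H ⊓ centralizer (fittingSubgroup H)) inferInstance
    fun a ha b hb => hb.2 a ha.1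
  have ZF : fittingSubgroup H ⊓ centralizer (fittingSubgroup H) ≤ centralizer (fittingSubgroup H) :=
    inf_le_right
  have three := fun {q} (O : One φ q) {Q : Sylow q H} => O.three I cyc (Q := Q)
  have nZ : (fittingSubgroup H ⊓ centralizer (fittingSubgroup H)).Normal := inferInstance
  generalize fittingSubgroup H ⊓ centralizer (fittingSubgroup H) = Z at cZ ZF three nZ
  obtain ⟨μ, hμ⟩ := exists_faithful cZ
  have main : ∀ {q r}, One φ q → One φ r → q ≠ r → (∃ Q : Sylow q H, (Q : Subgroup H) ≤ centralizer Z) →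
      Dv (q * r) H := fun {q r} O P ne ⟨Q, hQ⟩ => by
    obtain ⟨rfl, E, hE, z, xs, x, hx⟩ := three O hQ
    have := Fact.mk Nat.prime_two
    have r2 : 2 ≠ r := fun e => xs.z_ne (mem_bot.1 ((P.eq_bot I hE (e ▸ xs.isPGroup)).le xs.z_mem))
    have ZE : ∀ y ∈ Z, y ∈ centralizer (E : Set H) := fun y hy => centralizer_le
      ((Grp.le_pCore hE xs.isPGroup).trans (Grp.pCore_le_fitting 2)) (ZF hy)
    obtain ⟨α, a1, a2⟩ := Char.exists_hom_ext_sup (M := Z) (V₁ := E) (V := E ⊔ Z) le_sup_right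
      le_sup_left (le_top.trans (normalizer_eq_top _).ge) (sup_comm E Z).le (mu xs x) fun v hv => by
        rw [mu_apply, cm_eq_zero.2 (ZE v hv x x.2)]; exact if_pos rfl
    obtain ⟨β, b1, b2⟩ := Char.exists_hom_ext_sup (M := E) (V₁ := Z) (V := E ⊔ Z) le_sup_left
      le_sup_right (le_top.trans (normalizer_eq_top _).ge) le_rfl (μ ^ 2) fun v hv => by
        rw [MonoidHom.pow_apply, ← map_pow, sq, show v * v = 1 from Subtype.ext ?_, map_one]
        rcases xs.cent v hv fun y hy => (ZE v v.2 y hy).symm with e | e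
        · simp [e]
        · simpa [e] using xs.z_sq
    refine dv_two (E ⊔ Z) (α * β) O.prime P.prime ne (fun S c => hx S ?_) fun R c => ?_
    · convert c.trans (St_dual_le le_sup_left _)
      ext v
      rw [MonoidHom.comp_apply, MonoidHom.mul_apply, a2, b1 _ v.2, mul_one]
    · refine ne (three P (Q := R) fun a ha y hy => ?_).1.symm
      have e := mem_St_dual.1 (St_dual_le le_sup_right _ (c ha)) ⟨y, hy⟩
      have a3 : ∀ v : Z, α (inclusion le_sup_right v) = 1 := fun v => a1 _ v.2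
      simp only [MonoidHom.comp_apply, MonoidHom.mul_apply, b2, a3, one_mul, MonoidHom.pow_apply] at e
      rw [← mul_inv_eq_one, ← inv_pow, ← mul_pow, ← map_inv, ← map_mul, ← map_pow,
        map_eq_one_iff _ hμ] at e
      have e2 : (a * y * a⁻¹ * y⁻¹) ^ 2 = 1 := congrArg Subtype.val e
      obtain ⟨k, hk⟩ := R.2 ⟨a, ha⟩
      refine (comm_of_cop (congrArg Subtype.val hk) e2
        (((Nat.coprime_primes Nat.prime_two P.prime).2 r2).pow_right k) ?_).symm
      have m : a * y * a⁻¹ * y⁻¹ ∈ Z := mul_mem (nZ.conj_mem y hy a) (inv_mem hy)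
      generalize a * y * a⁻¹ * y⁻¹ = d at e2 m
      rcases (TT.mem_zpowers_invol (sq d ▸ e2)).1 ((normal_of_le_cyclic cZ (zpowers_le.2 m)).conj_mem
        d (mem_zpowers d) a) with f | f
      · rw [conj_eq_one_iff.1 f]; simp
      · exact mul_inv_eq_iff_eq_mul.1 f
  by_cases c : ∃ Q : Sylow q H, (Q : Subgroup H) ≤ centralizer Z
  · exact main O P ne c
  by_cases d : ∃ Q : Sylow r H, (Q : Subgroup H) ≤ centralizer Z
  · exact mul_comm r q ▸ main P O ne.symm d
  have le : St (dual Z) μ ≤ centralizer Z := fun g hg y hy => (mul_inv_eq_iff_eq_mul.1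
    (congrArg Subtype.val (hμ (mem_St_dual.1 hg ⟨y, hy⟩)))).symm
  exact dv_two Z μ O.prime P.prime ne (fun Q e => c ⟨Q, e.trans le⟩) fun Q e => d ⟨Q, e.trans le⟩

theorem KL [Nontrivial V] (O : One φ q) (P : One φ r) (ne : q ≠ r) : Dv (q * r) H := by
  obtain ⟨W, ⟨h1, h2⟩, hm⟩ := Set.Finite.exists_minimal (Set.toFinite
    {W : Subgroup V | Inv φ W ∧ W ≠ ⊥}) ⟨⊤, fun _ _ _ => mem_top _, top_ne_bot⟩
  have := (nontrivial_iff_ne_bot W).2 h2
  have I : Irr0 (res φ W h1) := ⟨this, fun U hU => or_iff_not_imp_left.2 fun n =>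
    eq_top_iff.2 fun u _ => by
      obtain ⟨y, hy, e⟩ := hm (y := U.map W.subtype) ⟨by
        rintro g _ ⟨y, hy, rfl⟩
        exact ⟨_, hU g y hy, rfl⟩, fun e => n ((map_eq_bot_iff_of_injective _ W.subtype_injective).1 e)⟩
        (map_subtype_le U) u.2
      exact (Subtype.ext e : y = u) ▸ hy⟩
  have s := (res φ W h1).rangeRestrict_surjective
  have : Finite (res φ W h1).range := Finite.of_surjective _ s
  have := Group.isSolvable_of_surjective s
  exact (I.range.KL (O.res h1).range (P.res h1).range ne).of_surj _ s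

end Cfsg.Agent.Palfy
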